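import Cfsg.Agent.H157.Ab.Rows

/-!
# S2501 from the rows (helper157)

* `ab3_of_known` : a known simple group which is non-abelian and not `PSL_2(q)` satisfies `Ab3`, given all rows and the
  alternating row.
-/

set_option autoImplicit false

namespace Cfsg.Agent.H157.Ab

open Cfsg

theorem ab3_tits (h : Ab3 Lie.TitsGroup) {G : Type*} [Group G] (e : G ≃* Lie.TitsGroup) : Ab3 G :=
  Ab3.congr (G := Lie.TitsGroup) (H := G) (MulEquiv.symm e) h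

/-- `Ab3` from `Rows` for known simple groups -/
theorem ab3_of_known (R : Rows) (halt : ∀ n : ℕ, 7 ≤ n → Ab3 (alternatingGroup (Fin n)))
    (h5 : ∃ (F : Type) (_ : Field F) (_ : Fintype F),
      Nonempty (alternatingGroup (Fin 5) ≃* Matrix.ProjectiveSpecialLinearGroup (Fin 2) F))
    (h6 : ∃ (F : Type) (_ : Field F) (_ : Fintype F),
      Nonempty (alternatingGroup (Fin 6) ≃* Matrix.ProjectiveSpecialLinearGroup (Fin 2) F))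
    (h32 : ∀ (F : Type) [Field F] [Fintype F], Fintype.card F = 2 → ∃ (F' : Type) (_ : Field F') (_ : Fintype F'),
      Nonempty (Matrix.ProjectiveSpecialLinearGroup (Fin 3) F ≃* Matrix.ProjectiveSpecialLinearGroup (Fin 2) F'))
    {G : Type*} [Group G] [Finite G] [IsSimpleGroup G] (hk : IsKnownSimple' G) (hG : ¬ IsMulCommutative G)
    (hL2 : ∀ (F : Type) [Field F] [Fintype F], ¬ Nonempty (G ≃* Matrix.ProjectiveSpecialLinearGroup (Fin 2) F)) :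
    Ab3 G := by
  rcases hk with h | ⟨n, hn, ⟨e⟩⟩ | ⟨F, _, _, n, hn, hn2, ⟨e⟩⟩ | ⟨F, _, _, m, hm, hm2, ⟨e⟩⟩ |
    ⟨F, _, _, n, q, hF, hn, hn2, ⟨e⟩⟩ | ⟨F, _, _, m, hm, ho, ⟨e⟩⟩ | ⟨F, _, _, m, hm, ⟨e⟩⟩ |
    ⟨F, _, _, m, a, b, hm, hab, ⟨e⟩⟩ | h | h
  · -- prime order
    exfalso
    have : Fact (Nat.card G).Prime := ⟨h⟩
    have hc : IsCyclic G := isCyclic_of_prime_card (p := Nat.card G) rfl
    exact hG ⟨⟨fun a b => IsCyclic.commGroup.mul_comm a b⟩⟩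
  · by_cases h7 : 7 ≤ n
    · exact (halt n h7).congr e.symm
    · exfalso
      have h56 : n = 5 ∨ n = 6 := by omega
      rcases h56 with rfl | rfl
      · obtain ⟨F, _, _, ⟨e'⟩⟩ := h5
        exact hL2 F ⟨e.trans e'⟩
      · obtain ⟨F, _, _, ⟨e'⟩⟩ := h6
        exact hL2 F ⟨e.trans e'⟩
  · by_cases h2 : n = 2
    · subst h2
      exact absurd ⟨e⟩ (hL2 F)
    · by_cases h3 : n = 3 ∧ Fintype.card F = 2
      · obtain ⟨rfl, h3⟩ := h3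
        obtain ⟨F', _, _, ⟨e'⟩⟩ := h32 F h3
        exact absurd ⟨e.trans e'⟩ (hL2 F')
      · exact (R.psl F n (by omega) h3).congr e.symm
  · exact (R.psp F m hm hm2).congr e.symm
  · exact (R.psu F n q hF hn hn2).congr e.symm
  · exact (R.omOdd F m hm ho).congr e.symm
  · exact (R.omPlus F m hm).congr e.symm
  · exact (R.omMinus F m a b hm hab).congr e.symm
  · rcases h with ⟨F, _, _, h3, ⟨e⟩⟩ | ⟨F, _, _, ⟨e⟩⟩ | ⟨F, _, _, ⟨e⟩⟩ | ⟨F, _, _, ⟨e⟩⟩ | ⟨F, _, _, ⟨e⟩⟩ |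
      ⟨K, _, _, q, hq, hK, ⟨e⟩⟩ | ⟨K, _, _, q, hq, hK, ⟨e⟩⟩ | ⟨F, _, _, m, hm, hF, ⟨e⟩⟩ |
      ⟨F, _, _, m, hm, hF, ⟨e⟩⟩ | ⟨F, _, _, m, hm, hF, ⟨e⟩⟩ | ⟨⟨e⟩⟩
    · exact (R.g2 F h3).congr e.symm
    · exact (R.f4 F).congr e.symm
    · exact (R.e6 F).congr e.symm
    · exact (R.e7 F).congr e.symm
    · exact (R.e8 F).congr e.symm
    · exact (R.twE6 K q hq hK).congr e.symm
    · exact (R.twD4 K q hq hK).congr e.symm
    · exact (R.sz F m hm hF).congr e.symm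
    · exact (R.ree F m hm hF).congr e.symm
    · exact (R.twF4 F m hm hF).congr e.symm
    · exact ab3_tits R.tits e
  · rcases h with ⟨⟨e⟩⟩ | ⟨⟨e⟩⟩ | ⟨⟨e⟩⟩ | ⟨⟨e⟩⟩ | ⟨⟨e⟩⟩ | ⟨⟨e⟩⟩ | ⟨⟨e⟩⟩ | ⟨F, _, _, ω, hF, hω, ⟨e⟩⟩ | ⟨⟨e⟩⟩ | ⟨⟨e⟩⟩ |
      ⟨⟨e⟩⟩ | ⟨⟨e⟩⟩ | ⟨⟨e⟩⟩ | ⟨⟨e⟩⟩ | ⟨⟨e⟩⟩ | ⟨⟨e⟩⟩ | ⟨⟨e⟩⟩ | ⟨⟨e⟩⟩ | ⟨⟨e⟩⟩ | ⟨⟨e⟩⟩ | ⟨⟨e⟩⟩ | ⟨⟨e⟩⟩ | ⟨⟨e⟩⟩ | ⟨⟨e⟩⟩ |
      ⟨⟨e⟩⟩ | ⟨⟨e⟩⟩
    · exact R.m11.congr e.symm
    · exact R.m12.congr e.symm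
    · exact R.m22.congr e.symm
    · exact R.m23.congr e.symm
    · exact R.m24.congr e.symm
    · exact R.j1.congr e.symm
    · exact R.j2.congr e.symm
    · exact (R.j3 F ω hF hω).congr e.symm
    · exact R.j4.congr e.symm
    · exact R.co1.congr e.symm
    · exact R.co2.congr e.symm
    · exact R.co3.congr e.symm
    · exact R.mcL.congr e.symm
    · exact R.hs.congr e.symm
    · exact R.suz.congr e.symm
    · exact R.he.congr e.symm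
    · exact R.ru.congr e.symm
    · exact R.on.congr e.symm
    · exact R.ly.congr e.symm
    · exact R.fi22.congr e.symm
    · exact R.fi23.congr e.symm
    · exact R.fi24.congr e.symm
    · exact R.hn.congr e.symm
    · exact R.th.congr e.symm
    · exact R.b.congr e.symm
    · exact R.m.congr e.symm

end Cfsg.Agent.H157.Ab
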