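import Cfsg.Agent.H157.Ab.CoTool
import Cfsg.Agent.H831.SmallCoOne
import Cfsg.Agent.H547.SelfCent.Conway
import Cfsg.Agent.H393.Iso.Co1
import Cfsg.Agent.H800.Sp.NotAbA
import Cfsg.Agent.H152.AbClassical

/-!
# The row `Co₁` of S2501 / S2502 (helper157)
-/

set_option autoImplicit false

namespace Cfsg.Agent.H157.Ab.CoOne

open Subgroup Cfsg Cfsg.Spor Cfsg.Agent.H498.Ab Cfsg.Agent.H157.Ab.CoTool
open Cfsg.Agent.SporadicA.Co0Mono (signCo0 permCo0 wordPerm)
open Cfsg.Agent.SporadicA.Co1Simple (exists_sign_perm allOne)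
open Cfsg.Agent.CoOneType.SignFacts (sup wt notMem_sup mem_sup)
open Cfsg.Agent.CoOneType.ClosingFacts (mk mk_mul mk_inv exists_mk mk_eq_one mk_eq isConj_octad)
open Cfsg.Agent.CoOneNWC.OmFacts (Om8 simple_om8 card_om8)
open Cfsg.Agent.H831.SmallCo (exists_oct)
open Cfsg.Agent.H831.SmallCo.One (card_co1 card_seven card_cent_mk_dvd)

theorem ab3_om8 : Ab3 Om8 := by
  have h2 : Subgroup.center Om8 = ⊥ := Cfsg.Agent.CoOneNWC.OmFacts.center_om8
  have h1 : Ab3 (Cfsg.POmega (ZMod 2) (Cfsg.quadFormPlus 4 (ZMod 2))) := H152.AbClassical.ab3_POmegaPlus (by norm_num)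
  have e : Om8 ≃* Cfsg.POmega (ZMod 2) (Cfsg.quadFormPlus 4 (ZMod 2)) :=
    (QuotientGroup.quotientBot (G := Om8)).symm.trans (QuotientGroup.quotientMulEquivOfEq h2.symm)
  exact h1.congr e.symm

theorem oct {o : golayCode} (ho : wt o = 8) : AbLE 286208 ↥(centralizer ({mk (signCo0 o)} : Set Spor.Co1)) := by
  have hfin := BpSpor.MBigCo.finite_co1
  obtain ⟨π, hπ, hker⟩ := exists_oct ho
  have h1 : AbLE 559 ↥π.range := (ab3_om8.abLE (by rw [card_om8]; norm_num)).of_injective _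
    (Subgroup.subtype_injective _)
  have h2 : AbLE 512 ↥π.ker := abLE_of_card_le (by rw [hker]; norm_num)
  exact (AbLE.of_hom π h1 h2).mono (by norm_num)

theorem perm_mul_sign' (c : golayCode) (σ : M24) (d : golayCode) (τ : M24) : ∃ e, mk (signCo0 c * permCo0 σ) * mk (signCo0 d * permCo0 τ) =
    mk (signCo0 e * permCo0 (σ * τ)) := by
  refine ⟨c + wordPerm σ d, ?_⟩
  rw [← mk_mul]
  congr 1
  rw [SporadicA.Co0Mono.signCo0_add, map_mul]
  have h := SporadicA.Co0Mono.perm_mul_sign σ d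
  calc signCo0 c * permCo0 σ * (signCo0 d * permCo0 τ) = signCo0 c * (permCo0 σ * signCo0 d) * permCo0 τ := by group
    _ = _ := by rw [h]; group

theorem dod {o : golayCode} (ho : wt o = 12) : AbLE 610304 ↥(centralizer ({mk (signCo0 o)} : Set Spor.Co1)) := by
  have hfin := BpSpor.MBigCo.finite_co1
  intro A hA
  have hA' : IsMulCommutative ↥(A.map (centralizer ({mk (signCo0 o)} : Set Spor.Co1)).subtype) := comm_map _ hA
  have hc : Nat.card ↥(A.map (centralizer ({mk (signCo0 o)} : Set Spor.Co1)).subtype) = Nat.card A :=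
    Subgroup.card_map_of_injective (Subgroup.subtype_injective _)
  rw [← hc]
  refine (card_mono_le (s := fun c σ => mk (signCo0 c * permCo0 σ)) (k := 4096) (t := 149) hA' ?_ perm_mul_sign'
    ?_ ?_ ?_).trans (by norm_num)
  · rintro _ ⟨a, -, rfl⟩
    obtain ⟨g, hg⟩ := exists_mk (a : Spor.Co1)
    have h2 := mem_centralizer_singleton_iff.1 a.2
    obtain ⟨c, σ, hcσ⟩ := exists_sign_perm (KFacts.Co1D4.DodBal.mem_N ho (show mk g * mk (signCo0 o) = _ by
      rw [hg]; exact h2))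
    exact ⟨c, σ, by
      show (a : Spor.Co1) = _
      rw [← hg, hcσ]⟩
  · intro c σ d τ h
    rcases (mk_eq _ _).1 h with h | h
    · exact (CoOneType.InvMain.sp_inj h).2
    · rw [CoOneType.SignFacts.sign_allOne_comm, ← mul_assoc, ← SporadicA.Co0Mono.signCo0_add] at h
      exact (CoOneType.InvMain.sp_inj h).2
  · intro σ
    refine (Nat.card_le_card_of_injective (fun c : {c : golayCode // mk (signCo0 c * permCo0 σ) ∈
      A.map (centralizer ({mk (signCo0 o)} : Set Spor.Co1)).subtype} => (c : golayCode)) Subtype.val_injective).trans ?_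
    rw [S0358.card_golayCode]
  · intro T hT hM
    exact card_perm_le hT fun σ hσ => (hM σ hσ).1

theorem two_b : AbLE 126888 ↥(centralizer ({KFacts.Co1D4.TwoB.w} : Set Spor.Co1)) := by
  have hfin := BpSpor.MBigCo.finite_co1
  have S := KFacts.Co1D4.Main.setup
  have hs := S.simple
  have hna : ¬ IsMulCommutative KFacts.Co1D4.GTwo.L := by
    intro h
    have h1 : commutator KFacts.Co1D4.GTwo.L = ⊥ := by
      rw [commutator_eq_bot_iff_center_eq_top]
      rw [eq_top_iff]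
      intro x _
      rw [Subgroup.mem_center_iff]
      exact fun g => h.is_comm.comm g x
    have h2 := S.perf
    have h3 : (⁅KFacts.Co1D4.GTwo.L, KFacts.Co1D4.GTwo.L⁆ : Subgroup Spor.Co1) = ⊥ := by
      rw [Subgroup.commutator_eq_bot_iff_le_centralizer]
      intro x hx
      rw [Subgroup.mem_centralizer_iff]
      intro y hy
      exact congrArg Subtype.val (h.is_comm.comm (⟨y, hy⟩ : KFacts.Co1D4.GTwo.L) ⟨x, hx⟩)
    have h4 : KFacts.Co1D4.GTwo.L = ⊥ := h2.symm.trans h3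
    exact S.z1 (by
      have := S.zL
      rw [h4] at this
      exact Subgroup.mem_bot.1 this)
  have h1 : AbLE 15861 ↥KFacts.Co1D4.GTwo.L := abLE_simple hna (by rw [KFacts.Co1D4.GTwo.card_L]; norm_num)
  refine (abLE_of_le (k := 8) (fun l hl => mem_centralizer_singleton_iff.2 (S.Lw l hl)) S.card h1).mono (by norm_num)

theorem at_two : H993.AbTool.At3 2 Spor.Co1 := by
  have hfin := BpSpor.MBigCo.finite_co1
  refine at3_of_cent' Nat.prime_two fun x hx => ?_
  obtain ⟨g, s, hs, rfl⟩ := CTwoTab.Co1.exists_rep x hx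
  rcases hs with ⟨o, ho, rfl⟩ | ⟨o, ho, rfl⟩ | rfl
  · exact ⟨286208, abLE_conj _ _ (oct ho), by rw [card_co1]; norm_num⟩
  · exact ⟨610304, abLE_conj _ _ (dod ho), by rw [card_co1]; norm_num⟩
  · exact ⟨126888, abLE_conj _ _ two_b, by rw [card_co1]; norm_num⟩

theorem at_thirteen : H993.AbTool.At3 13 Spor.Co1 := by
  have hfin := BpSpor.MBigCo.finite_co1
  intro N hN h13
  by_cases he : 2 ∣ Nat.card ↥N
  · exact at_two N hN he
  have hp13 : Nat.Prime 13 := by norm_num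
  obtain ⟨x, hx, -, hle⟩ := H993.AbTool.exists_le_cent hp13 hN h13
  obtain ⟨a, rfl, ha, hao⟩ := BpSpor.MBigCo.exists_lift_thirteen hx
  have h3 : Nat.card ↥N ∣ Nat.card ↥(centralizer ({a} : Set Co0)) :=
    (card_dvd_of_le hle).trans (card_cent_mk_dvd (n := 13) (by decide) ha)
  have hc : ∀ q : ℕ, q.Prime → (q = 2 ∨ (5 ≤ q ∧ q ≠ 13)) → (Nat.card ↥N).Coprime q := by
    rintro q hq (rfl | ⟨h5, h13'⟩)
    · exact ((Nat.Prime.coprime_iff_not_dvd hq).2 he).symm
    · exact ((Nat.Prime.coprime_iff_not_dvd hq).2 fun h =>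
        BpSpor.MBigCo.not_dvd_thirteen hao hq h5 h13' (h.trans h3)).symm
  have h4 : Nat.card ↥N ∣ 3 ^ 9 * 13 * 2 ^ 21 * 5 ^ 4 * 7 ^ 2 * 11 * 23 := by
    refine (card_subgroup_dvd_card N).trans (dvd_of_eq ?_)
    rw [card_co1]; norm_num
  have h5 := (hc 23 (by norm_num) (by norm_num)).dvd_of_dvd_mul_right h4
  have h6 := (hc 11 (by norm_num) (by norm_num)).dvd_of_dvd_mul_right h5
  have h7 := ((hc 7 (by norm_num) (by norm_num)).pow_right 2).dvd_of_dvd_mul_right h6
  have h8 := ((hc 5 (by norm_num) (by norm_num)).pow_right 4).dvd_of_dvd_mul_right h7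
  have h9 := ((hc 2 (by norm_num) (by norm_num)).pow_right 21).dvd_of_dvd_mul_right h8
  have h10 := Nat.le_of_dvd (by norm_num) h9
  calc Nat.card ↥N ^ 3 ≤ (3 ^ 9 * 13) ^ 3 := Nat.pow_le_pow_left h10 3
    _ < Nat.card Spor.Co1 := by rw [card_co1]; norm_num

theorem not_dvd {p e : ℕ} [Fact p.Prime] (hna : H800.Sp.NotAb p Spor.Co1) (h1 : p ^ (e + 1) ∣ Nat.card Spor.Co1)
    (h2 : ¬ p ^ (e + 2) ∣ Nat.card Spor.Co1) {A : Subgroup Spor.Co1} (hA : IsMulCommutative A) :
    ¬ p ^ (e + 1) ∣ Nat.card A := by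
  have hfin := BpSpor.MBigCo.finite_co1
  obtain ⟨P⟩ : Nonempty (Sylow p Spor.Co1) := inferInstance
  refine dvd_of_sylow P (hna P) ?_ hA
  obtain ⟨k, hk⟩ := IsPGroup.iff_card.1 P.2
  rw [hk]
  congr 1
  have h3 : k < e + 2 := by
    by_contra hcon
    exact h2 ((pow_dvd_pow p (by omega)).trans (hk ▸ Subgroup.card_subgroup_dvd_card (P : Subgroup Spor.Co1)))
  have h4 : e + 1 ≤ k := by
    have h5 : p ^ (e + 1) ∣ Nat.card P := P.pow_dvd_card_of_pow_dvd_card h1
    rw [hk] at h5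
    exact (Nat.pow_dvd_pow_iff_le_right (Fact.out (p := p.Prime)).one_lt).1 h5
  omega

theorem ab3 : Ab3 Spor.Co1 := by
  have hfin := BpSpor.MBigCo.finite_co1
  have hc := card_co1
  refine ab3_of_forall (S := {2, 7, 11, 13, 23}) (M := 3 ^ 9 * 5 ^ 4) (K := 2 ^ 21 * (7 ^ 2 * (11 * (13 * 23))))
    (by rw [hc]; norm_num) ?_ ?_ ?_
  · intro p hp hd
    rw [hp.dvd_mul, hp.dvd_mul, hp.dvd_mul, hp.dvd_mul] at hd
    simp only [Finset.mem_insert, Finset.mem_singleton]
    rcases hd with h | h | h | h | h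
    · exact Or.inl ((Nat.prime_dvd_prime_iff_eq hp Nat.prime_two).1 (hp.dvd_of_dvd_pow h))
    · exact Or.inr (Or.inl ((Nat.prime_dvd_prime_iff_eq hp (by norm_num)).1 (hp.dvd_of_dvd_pow h)))
    · exact Or.inr (Or.inr (Or.inl ((Nat.prime_dvd_prime_iff_eq hp (by norm_num)).1 h)))
    · exact Or.inr (Or.inr (Or.inr (Or.inl ((Nat.prime_dvd_prime_iff_eq hp (by norm_num)).1 h))))
    · exact Or.inr (Or.inr (Or.inr (Or.inr ((Nat.prime_dvd_prime_iff_eq hp (by norm_num)).1 h))))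
  · intro A hA hd
    have h3 : Fact (Nat.Prime 3) := ⟨by norm_num⟩
    have h5 : Fact (Nat.Prime 5) := ⟨by norm_num⟩
    have e3 : ¬ 3 ^ 9 ∣ Nat.card A := not_dvd (p := 3) (e := 8) (H800.Sp.NotAbRows.co1_3 ⟨MulEquiv.refl _⟩)
      (by rw [hc]; norm_num) (by rw [hc]; norm_num) hA
    have e5 : ¬ 5 ^ 4 ∣ Nat.card A := not_dvd (p := 5) (e := 3) (H800.Sp.NotAbRows.co1_5 ⟨MulEquiv.refl _⟩)
      (by rw [hc]; norm_num) (by rw [hc]; norm_num) hA
    obtain ⟨a, b, ha, hb, hab⟩ := exists_dvd_and_dvd_of_dvd_mul hd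
    obtain ⟨i, hi, rfl⟩ := (Nat.dvd_prime_pow h3.out).1 ha
    obtain ⟨j, hj, rfl⟩ := (Nat.dvd_prime_pow h5.out).1 hb
    have hi' : i ≤ 8 := by
      by_contra hcon
      exact e3 (by rw [hab, show i = 9 by omega]; exact dvd_mul_right _ _)
    have hj' : j ≤ 3 := by
      by_contra hcon
      exact e5 (by rw [hab, show j = 4 by omega]; exact dvd_mul_left _ _)
    calc Nat.card A ^ 3 ≤ (3 ^ 8 * 5 ^ 3) ^ 3 := by
          rw [hab]
          exact Nat.pow_le_pow_left (Nat.mul_le_mul (Nat.pow_le_pow_right (by norm_num) hi')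
            (Nat.pow_le_pow_right (by norm_num) hj')) 3
      _ < Nat.card Spor.Co1 := by rw [hc]; norm_num
  · intro p hp hpr A hA hd
    simp only [Finset.mem_insert, Finset.mem_singleton] at hp
    rcases hp with rfl | rfl | rfl | rfl | rfl
    · exact at_two A hA hd
    · exact H993.AbTool.at3_of_card hpr (b := 35280) (by rw [hc]; norm_num) (fun x hx => card_seven hx) A hA hd
    · exact H993.AbTool.at3_of_card hpr (b := 132) (by rw [hc]; norm_num) (fun x hx => BpSpor.MBigCo.card_cent hx) A hA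
        hd
    · exact at_thirteen A hA hd
    · exact H993.AbTool.at3_of_card hpr (b := 23) (by rw [hc]; norm_num) (fun x hx =>
        (H547.SelfCent.Conway.co1 ⟨MulEquiv.refl _⟩ (H393.Iso.na_co1 ⟨MulEquiv.refl _⟩) hx).le) A hA hd

/-- **The row `Co₁`.** -/
theorem ab3_Co1 {G : Type*} [Group G] [Finite G] [IsSimpleGroup G] (h : Cfsg.Spor.IsoCo1 G) :
    Cfsg.Agent.H498.Ab.Ab3 G := by
  obtain ⟨e⟩ := h
  exact ab3.congr e.symm

end Cfsg.Agent.H157.Ab.CoOne
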