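import Cfsg.Agent.H157.Ab.Co1
import Cfsg.Agent.H831.SmallCoTwo
import Cfsg.Agent.H393.Iso.Co2
import Cfsg.Agent.StandardComponent.SpTwoAut
import Cfsg.Agent.KFacts.Co1.YBig
import Cfsg.Agent.H805.AbSuz

/-!
# The row `Co₂` of S2501 / S2502 (helper157)
-/

set_option autoImplicit false

namespace Cfsg.Agent.H157.Ab.CoTwo

open Subgroup Cfsg Cfsg.Spor Cfsg.Agent.H498.Ab Cfsg.Agent.H157.Ab.CoTool
open scoped Pointwise
open Cfsg.Agent.SporadicA.Co0Mono (signCo0 permCo0 wordPerm signCo0_smul permCo0_smul signMap_apply permMap_apply)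
open Cfsg.Agent.SporadicA.Co1Simple (allOne)
open Cfsg.Agent.CoOneType.SignFacts (sup wt notMem_sup mem_sup)
open Cfsg.Agent.CoOneType.ClosingFacts (mk mk_mul mk_inv exists_mk mk_eq_one mk_eq isConj_octad)
open Cfsg.Agent.CoOneNWC.OmFacts (Om8 simple_om8 card_om8)
open Cfsg.Agent.Co2Type.Mono Cfsg.Agent.Co2Type.TGroup Cfsg.Agent.Co2Type.TData Cfsg.Agent.Co2Type.FactsD
open Cfsg.Agent.H831.SmallCo (exists_oct normal_le_ker centHom centHom_injective mk_injective card_seven card_eleven)
open Cfsg.Agent.H831.SmallCo.Two (card_co2 pair_of_smul notMem_sup_cd)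

theorem ab3_sp : Ab3 KFacts.CoTwo.Quot.Sp62 := by
  obtain ⟨e⟩ := StandardComponent.SpTwoAut.exists_equiv₀
  exact (H152.AbClassical.ab3_PSp (m := 3) (F := ZMod 2) (by norm_num) (by norm_num)).congr e

/-- `C(2A)` -/
theorem cz : AbLE 3648 ↥(centralizer ({ge mz} : Set Spor.Co2)) := by
  have hfin : Finite Spor.Co2 := Schreier.CoTwoStab.finite
  have D := KFacts.CoTwo.QuotInst.dataT
  obtain ⟨π, hs, hker⟩ := D.quot
  have h1 : AbLE 114 ↥π.range := (ab3_sp.abLE (by
    have h : Nat.card KFacts.CoTwo.Quot.Sp62 = 1451520 := Co2Type.Setup.card_sp6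
    rw [h]; norm_num)).of_injective _ (Subgroup.subtype_injective _)
  have h4 : π.ker = KFacts.CoTwo.RSub.R.subgroupOf (centralizer ({ge mz} : Set Spor.Co2)) := by
    ext c
    rw [MonoidHom.mem_ker, hker, mem_subgroupOf]
  have hle : KFacts.CoTwo.RSub.R ≤ centralizer ({ge mz} : Set Spor.Co2) := fun x hx =>
    mem_centralizer_singleton_iff.2 (D.large.comm_z x hx)
  have h2 : AbLE 32 ↥KFacts.CoTwo.RSub.R := H805.Ab.abLE_of_large D.large (by
    rw [KFacts.CoTwo.RLarge.card_R]; norm_num)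
  have h3 : AbLE 32 ↥π.ker := by
    rw [h4]
    exact h2.congr (subgroupOfEquivOfLe hle).symm
  exact (AbLE.of_hom π h1 h3).mono (by norm_num)

/-- `C(octad)` in `Co₁` -/
theorem oct' {o : golayCode} (ho : wt o = 8) : AbLE 17888 ↥(centralizer ({mk (signCo0 o)} : Set Spor.Co1)) := by
  have hfin := BpSpor.MBigCo.finite_co1
  obtain ⟨π, hπ, hker⟩ := exists_oct ho
  have h1 : AbLE 559 ↥π.range := (CoOne.ab3_om8.abLE (by rw [card_om8]; norm_num)).of_injective _
    (Subgroup.subtype_injective _)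
  have hL := KFacts.Co1.InCo1.large ho
  have hR : KFacts.Co1.InCo1.RCo1 o ≤ centralizer ({mk (signCo0 o)} : Set Spor.Co1) := fun x hx =>
    mem_centralizer_singleton_iff.2 (hL.comm_z x hx)
  have hRn : ((KFacts.Co1.InCo1.RCo1 o).subgroupOf (centralizer ({mk (signCo0 o)} : Set Spor.Co1))).Normal := by
    constructor
    intro r hr c
    rw [mem_subgroupOf] at hr ⊢
    exact hL.conj_mem c (mem_centralizer_singleton_iff.1 c.2) r hr
  have hR2 : IsPGroup 2 ↥((KFacts.Co1.InCo1.RCo1 o).subgroupOf (centralizer ({mk (signCo0 o)} : Set Spor.Co1))) :=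
    (LargeExtra.Base.isPGroup hL).of_equiv (subgroupOfEquivOfLe hR).symm
  have hRk := normal_le_ker hπ hRn hR2
  have heq : (KFacts.Co1.InCo1.RCo1 o).subgroupOf (centralizer ({mk (signCo0 o)} : Set Spor.Co1)) = π.ker := by
    refine eq_of_le_of_card_ge hRk ?_
    rw [hker, Nat.card_congr (subgroupOfEquivOfLe hR).toEquiv, KFacts.Co1.YBig.card_R ho]
    norm_num
  have h2 : AbLE 32 ↥(KFacts.Co1.InCo1.RCo1 o) := H805.Ab.abLE_of_large hL (by
    rw [KFacts.Co1.YBig.card_R ho]; norm_num)
  have h3 : AbLE 32 ↥π.ker := by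
    rw [← heq]
    exact h2.congr (subgroupOfEquivOfLe hR).symm
  exact (AbLE.of_hom π h1 h3).mono (by norm_num)

/-- `C(2B)` -/
theorem cy {o : golayCode} (ho : wt o = 8) {y : Spor.Co2} (hy : toCo0 y = signCo0 o) :
    AbLE 17888 ↥(centralizer ({y} : Set Spor.Co2)) := by
  have hfin1 := BpSpor.MBigCo.finite_co1
  let φ : Spor.Co2 →* Spor.Co1 := (QuotientGroup.mk' (Subgroup.center Co0)).comp toCo0
  have hφ : Function.Injective φ := mk_injective toCo0_injective PreUniqCo.Rows.leechU_ne toCo0_smul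
  have hφy : φ y = mk (signCo0 o) := by
    show mk (toCo0 y) = _
    rw [hy]
  have h1 := oct' ho
  rw [← hφy] at h1
  exact h1.of_injective (centHom φ y) (centHom_injective hφ y)

/-! ### dodecads -/

/-- an abelian group of permutations preserving a dodecad -/
theorem card_dod_le {T : Subgroup (Equiv.Perm GolayPt)} (hT : IsMulCommutative T) {d : Finset GolayPt}
    (hd : d ∈ dodecads) (hM : ∀ σ ∈ T, σ ∈ M24 ∧ σ • d = d) : Nat.card T ≤ 17 := by
  have h := H993.AbPerm.cube_le hT (D := (d : Set GolayPt)) (fun a ha p hp => by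
      have h1 := Finset.smul_mem_smul_finset (a := a) (Finset.mem_coe.1 hp)
      rw [(hM a ha).2] at h1
      exact h1) (f := 4) (k := 0) (n := 12) (by rw [Set.ncard_coe_finset]; exact hd.2)
    (by norm_num) (fun a ha S hSD hS hf => ?_) (S₀ := ∅) (Set.empty_subset _) (Set.ncard_empty _)
    (fun _ _ p hp => absurd hp (Set.notMem_empty p)) (by norm_num)
  · by_contra hcon
    push Not at hcon
    have h2 : 18 ^ 3 ≤ Nat.card T ^ 3 := Nat.pow_le_pow_left hcon 3
    have h3 := h2.trans h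
    norm_num at h3
  · have hSf : S.Finite := Set.toFinite S
    obtain ⟨t, htS, ht5⟩ := Finset.exists_subset_card_eq (s := hSf.toFinset) (n := 5) (by
      rw [← Set.ncard_eq_toFinset_card S hSf]; omega)
    have h1 : Nat.card (SporadicStructure.DodecadStab.DFix d t.toList) = 1 := by
      rw [SporadicStructure.DodecadStab.card_DFix hd t.toList t.nodup_toList (fun p hp => by
        have h2 := htS (Finset.mem_toList.1 hp)
        exact hSD (hSf.mem_toFinset.1 h2)) (by rw [Finset.length_toList, ht5]), Finset.length_toList, ht5]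
      rfl
    have h2 : a ∈ SporadicStructure.DodecadStab.DFix d t.toList := by
      refine ⟨(hM a ha).1, (hM a ha).2, fun p hp => hf p ?_⟩
      exact hSf.mem_toFinset.1 (htS (Finset.mem_toList.1 hp))
    have h3 := (Subgroup.card_eq_one.1 h1)
    rw [h3] at h2
    exact Subgroup.mem_bot.1 h2

theorem self_add (c : golayCode) : c + c = 0 := by
  apply Subtype.ext
  funext i
  show (c : GolayPt → ZMod 2) i + (c : GolayPt → ZMod 2) i = 0
  exact CharTwo.add_self_eq_zero _

theorem exists_word : ∃ w : golayCode, (none : GolayPt) ∈ sup w := by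
  refine ⟨allOne, ?_⟩
  rw [mem_sup]
  rfl

/-- `C(2C)` -/
theorem cv {o : golayCode} (ho : wt o = 12) {v : Spor.Co2} (hv : toCo0 v = signCo0 o)
    (hmono : ∀ g : Spor.Co2, g * v = v * g → ∃ (c : golayCode) (σ : M24), toCo0 g = signCo0 c * permCo0 σ) :
    AbLE 34816 ↥(centralizer ({v} : Set Spor.Co2)) := by
  have hfin : Finite Spor.Co2 := Schreier.CoTwoStab.finite
  have hfin0 := Cfsg.Agent.CpAutBig.CoZero.finite_co0
  intro A hA
  let ψ : ↥(centralizer ({v} : Set Spor.Co2)) →* Co0 := toCo0.comp (centralizer ({v} : Set Spor.Co2)).subtype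
  have hψ : Function.Injective ψ := toCo0_injective.comp (Subgroup.subtype_injective _)
  have hA' : IsMulCommutative ↥(A.map ψ) := comm_map _ hA
  have hc : Nat.card ↥(A.map ψ) = Nat.card A := Subgroup.card_map_of_injective hψ
  have hfix : ∀ g ∈ A.map ψ, g • leechU = leechU := by
    rintro _ ⟨a, -, rfl⟩
    exact toCo0_smul _
  have hcomm : ∀ g ∈ A.map ψ, g * signCo0 o = signCo0 o * g := by
    rintro _ ⟨a, -, rfl⟩
    have h2 := congrArg toCo0 (mem_centralizer_singleton_iff.1 a.2)
    rw [map_mul, map_mul, hv] at h2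
    exact h2
  rw [← hc]
  refine (card_mono_le (s := fun c σ => signCo0 c * permCo0 σ) (k := 2048) (t := 17) hA' ?_ ?_
    ?_ ?_ ?_).trans (by norm_num)
  · rintro _ ⟨a, -, rfl⟩
    exact hmono a (mem_centralizer_singleton_iff.1 a.2)
  · intro c σ d τ
    refine ⟨c + wordPerm σ d, ?_⟩
    rw [SporadicA.Co0Mono.signCo0_add, map_mul]
    have h := SporadicA.Co0Mono.perm_mul_sign σ d
    calc signCo0 c * permCo0 σ * (signCo0 d * permCo0 τ) = signCo0 c * (permCo0 σ * signCo0 d) * permCo0 τ := by group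
      _ = _ := by rw [h]; group
  · intro c σ d τ h
    exact (CoOneType.InvMain.sp_inj h).2
  · intro σ
    obtain ⟨w, hw⟩ := exists_word
    let Xs := {c : golayCode // signCo0 c * permCo0 σ ∈ A.map ψ}
    have hnot : ∀ c d : Xs, none ∉ sup ((c : golayCode) + d) := by
      intro c d hcd
      have h1 : signCo0 ((c : golayCode) + d) ∈ A.map ψ := by
        have h2 := mul_mem c.2 (inv_mem d.2)
        have h3 : signCo0 (c : golayCode) * permCo0 σ * (signCo0 (d : golayCode) * permCo0 σ)⁻¹ =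
            signCo0 ((c : golayCode) + d) := by
          have h4 : (signCo0 (d : golayCode))⁻¹ = signCo0 (d : golayCode) :=
            inv_eq_of_mul_eq_one_right (SporadicA.Co0Mono.signCo0_mul_self _)
          rw [SporadicA.Co0Mono.signCo0_add, mul_inv_rev, h4]
          group
        rwa [h3] at h2
      have h5 := congrArg (fun u : leechLattice => (u : GolayPt → ℤ) none) (hfix _ h1)
      change ((signCo0 ((c : golayCode) + d) • leechU : leechLattice) : GolayPt → ℤ) none =
        (leechU : GolayPt → ℤ) none at h5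
      rw [signCo0_smul, signMap_apply] at h5
      have h6 : (leechU : GolayPt → ℤ) none = 4 := by
        show (if (none : GolayPt) = none ∨ (none : GolayPt) = some 0 then (4 : ℤ) else 0) = 4
        rw [if_pos (Or.inl rfl)]
      rw [h6] at h5
      have h7 := (mem_sup _ _).1 hcd
      rw [h7, SporadicA.Co0Mono.sgn, if_neg (by decide)] at h5
      norm_num at h5
    have h1 : Nat.card (Xs ⊕ Xs) ≤ Nat.card golayCode := by
      refine Nat.card_le_card_of_injective (Sum.elim (fun c => (c : golayCode)) (fun c => (c : golayCode) + w)) ?_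
      rintro (c | c) (d | d) h
      · exact congrArg Sum.inl (Subtype.ext h)
      · exfalso
        have h' : (c : golayCode) = d + w := h
        apply hnot c d
        have h2 : (c : golayCode) + d = w := by
          rw [h', add_comm (d : golayCode) w, add_assoc, self_add, add_zero]
        rw [h2]
        exact hw
      · exfalso
        have h' : (c : golayCode) + w = d := h
        apply hnot c d
        have h2 : (c : golayCode) + d = w := by
          rw [← h', ← add_assoc, self_add, zero_add]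
        rw [h2]
        exact hw
      · exact congrArg Sum.inr (Subtype.ext (add_right_cancel h))
    rw [Nat.card_sum, S0358.card_golayCode] at h1
    show Nat.card Xs ≤ 2048
    omega
  · intro T hT hM
    let d : Finset GolayPt := sup o
    have hd : d ∈ dodecads := ⟨CoOneType.SignFacts.sup_mem _, ho⟩
    refine card_dod_le hT hd fun σ hσ => ?_
    obtain ⟨h, c, hc'⟩ := hM σ hσ
    refine ⟨h, ?_⟩
    have h2 := hcomm _ hc'
    rw [mul_assoc, SporadicA.Co0Mono.perm_mul_sign, ← mul_assoc, ← mul_assoc,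
      ← SporadicA.Co0Mono.signCo0_add, ← SporadicA.Co0Mono.signCo0_add] at h2
    have h3 := (CoOneType.InvMain.sp_inj h2).1
    rw [add_comm o c] at h3
    have h4 : wordPerm (⟨σ, h⟩ : M24) o = o := add_left_cancel h3
    show σ • sup o = sup o
    conv_rhs => rw [← h4]
    rw [KFacts.Co1.OctPts.sup_wordPerm]

theorem at_two : H993.AbTool.At3 2 Spor.Co2 := by
  have hfin : Finite Spor.Co2 := Schreier.CoTwoStab.finite
  refine at3_of_cent' Nat.prime_two fun x hx => ?_
  have hxx : x * x = 1 := by rw [← pow_two, ← hx, pow_orderOf_eq_one]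
  have hx1 : x ≠ 1 := by
    intro h
    rw [h, orderOf_one] at hx
    omega
  rcases Co2Type.FactsClass.classes hxx hx1 with h | h | h
  · obtain ⟨g, rfl⟩ := isConj_iff.1 h
    exact ⟨3648, abLE_conj _ _ cz, by rw [card_co2]; norm_num⟩
  · obtain ⟨g, rfl⟩ := isConj_iff.1 h
    refine ⟨17888, abLE_conj _ _ (cy (o := cd my) ?_ (KFacts.CoTwo.RLarge.toCo0_ge iy)),
      by rw [card_co2]; norm_num⟩
    rw [KFacts.CoInv.TwoMono.wt_cd (isCode_of_inE iy)]
    decide +kernel
  · obtain ⟨g, rfl⟩ := isConj_iff.1 h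
    refine ⟨34816, abLE_conj _ _ (cv (o := cd mv) ?_ (KFacts.CoTwo.RLarge.toCo0_ge iv) ?_),
      by rw [card_co2]; norm_num⟩
    · rw [KFacts.CoInv.TwoMono.wt_cd (isCode_of_inE iv)]
      decide +kernel
    · intro g hg
      obtain ⟨m, Q, hm, hQ, -, rfl⟩ := SevenCases.Co2V.exists_mo2 hg
      exact ⟨cd m, SporadicStructure.M24El.el Q, toCo0_mo2 hm hQ⟩

theorem not_dvd {p e : ℕ} [Fact p.Prime] (hna : H800.Sp.NotAb p Spor.Co2) (h1 : p ^ (e + 1) ∣ Nat.card Spor.Co2)
    (h2 : ¬ p ^ (e + 2) ∣ Nat.card Spor.Co2) {A : Subgroup Spor.Co2} (hA : IsMulCommutative A) :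
    ¬ p ^ (e + 1) ∣ Nat.card A := by
  have hfin : Finite Spor.Co2 := Schreier.CoTwoStab.finite
  obtain ⟨P⟩ : Nonempty (Sylow p Spor.Co2) := inferInstance
  refine dvd_of_sylow P (hna P) ?_ hA
  obtain ⟨k, hk⟩ := IsPGroup.iff_card.1 P.2
  rw [hk]
  congr 1
  have h3 : k < e + 2 := by
    by_contra hcon
    exact h2 ((pow_dvd_pow p (by omega)).trans (hk ▸ Subgroup.card_subgroup_dvd_card (P : Subgroup Spor.Co2)))
  have h4 : e + 1 ≤ k := by
    have h5 : p ^ (e + 1) ∣ Nat.card P := P.pow_dvd_card_of_pow_dvd_card h1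
    rw [hk] at h5
    exact (Nat.pow_dvd_pow_iff_le_right (Fact.out (p := p.Prime)).one_lt).1 h5
  omega

theorem ab3 : Ab3 Spor.Co2 := by
  have hfin : Finite Spor.Co2 := Schreier.CoTwoStab.finite
  have hc := card_co2
  have hφ := toCo0_injective
  have hv := PreUniqCo.Rows.leechU_ne
  have hfix : ∀ x, toCo0 x • leechU = leechU := toCo0_smul
  refine ab3_of_forall (S := {2, 7, 11, 23}) (M := 3 ^ 6 * 5 ^ 3) (K := 2 ^ 18 * (7 * (11 * 23)))
    (by rw [hc]; norm_num) ?_ ?_ ?_
  · intro p hp hd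
    rw [hp.dvd_mul, hp.dvd_mul, hp.dvd_mul] at hd
    simp only [Finset.mem_insert, Finset.mem_singleton]
    rcases hd with h | h | h | h
    · exact Or.inl ((Nat.prime_dvd_prime_iff_eq hp Nat.prime_two).1 (hp.dvd_of_dvd_pow h))
    · exact Or.inr (Or.inl ((Nat.prime_dvd_prime_iff_eq hp (by norm_num)).1 h))
    · exact Or.inr (Or.inr (Or.inl ((Nat.prime_dvd_prime_iff_eq hp (by norm_num)).1 h)))
    · exact Or.inr (Or.inr (Or.inr ((Nat.prime_dvd_prime_iff_eq hp (by norm_num)).1 h)))
  · intro A hA hd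
    have h3 : Fact (Nat.Prime 3) := ⟨by norm_num⟩
    have h5 : Fact (Nat.Prime 5) := ⟨by norm_num⟩
    have e3 : ¬ 3 ^ 6 ∣ Nat.card A := not_dvd (p := 3) (e := 5) (H800.Sp.NotAbRows.co2_3 ⟨MulEquiv.refl _⟩)
      (by rw [hc]; norm_num) (by rw [hc]; norm_num) hA
    have e5 : ¬ 5 ^ 3 ∣ Nat.card A := not_dvd (p := 5) (e := 2) (H800.Sp.NotAbRows.co2_5 ⟨MulEquiv.refl _⟩)
      (by rw [hc]; norm_num) (by rw [hc]; norm_num) hA
    obtain ⟨a, b, ha, hb, hab⟩ := exists_dvd_and_dvd_of_dvd_mul hd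
    obtain ⟨i, hi, rfl⟩ := (Nat.dvd_prime_pow h3.out).1 ha
    obtain ⟨j, hj, rfl⟩ := (Nat.dvd_prime_pow h5.out).1 hb
    have hi' : i ≤ 5 := by
      by_contra hcon
      exact e3 (by rw [hab, show i = 6 by omega]; exact dvd_mul_right _ _)
    have hj' : j ≤ 2 := by
      by_contra hcon
      exact e5 (by rw [hab, show j = 3 by omega]; exact dvd_mul_left _ _)
    calc Nat.card A ^ 3 ≤ (3 ^ 5 * 5 ^ 2) ^ 3 := by
          rw [hab]
          exact Nat.pow_le_pow_left (Nat.mul_le_mul (Nat.pow_le_pow_right (by norm_num) hi')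
            (Nat.pow_le_pow_right (by norm_num) hj')) 3
      _ < Nat.card Spor.Co2 := by rw [hc]; norm_num
  · intro p hp hpr A hA hd
    simp only [Finset.mem_insert, Finset.mem_singleton] at hp
    rcases hp with rfl | rfl | rfl | rfl
    · exact at_two A hA hd
    · exact H993.AbTool.at3_of_card hpr (b := 4704) (by rw [hc]; norm_num)
        (fun x hx => card_seven hφ hv hfix hx) A hA hd
    · exact H993.AbTool.at3_of_card hpr (b := 132) (by rw [hc]; norm_num)
        (fun x hx => card_eleven hφ hv hfix hx) A hA hd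
    · exact H993.AbTool.at3_of_card hpr (b := 23) (by rw [hc]; norm_num) (fun x hx =>
        (H547.SelfCent.Conway.co2 ⟨MulEquiv.refl _⟩ (H393.Iso.na_co2 ⟨MulEquiv.refl _⟩) hx).le) A hA hd

/-- **The row `Co₂`.** -/
theorem ab3_Co2 {G : Type*} [Group G] [Finite G] [IsSimpleGroup G] (h : Cfsg.Spor.IsoCo2 G) :
    Cfsg.Agent.H498.Ab.Ab3 G := by
  obtain ⟨e⟩ := h
  exact ab3.congr e.symm

end Cfsg.Agent.H157.Ab.CoTwo
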