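import Cfsg.Prelude.Def_Classification2

/-!
# Abelian subgroups of simple groups: `|A| ^ 3 < |G|` (S2501, S2502) -- definitions and interface (helper157)

* `Ab3 G` : every abelian subgroup `A` of `G` has `|A| ^ 3 < |G|`; `Ab3.congr`;
* `Form σ B` : non-degenerate reflexive sesquilinear forms (no symmetry fixed), `Iso B A` : `A` preserves `B`;
* `Comm A` : the elements of the set `A` commute.
-/

set_option autoImplicit false

namespace Cfsg.Agent.H157.Ab

/-- every abelian subgroup `A` of `G` has `|A| ^ 3 < |G|` -/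
def Ab3 (G : Type*) [Group G] : Prop :=
  ∀ A : Subgroup G, IsMulCommutative A → Nat.card A ^ 3 < Nat.card G

theorem Ab3.congr {G H : Type*} [Group G] [Group H] (e : G ≃* H) (h : Ab3 G) : Ab3 H := by
  intro A hA
  have hc : IsMulCommutative (A.comap e.toMonoidHom) := by
    refine ⟨⟨fun x y => ?_⟩⟩
    apply Subtype.ext
    apply e.injective
    have := hA.is_comm.comm (⟨e x, x.2⟩ : A) ⟨e y, y.2⟩
    have h1 : e (x : G) * e (y : G) = e (y : G) * e (x : G) := congrArg Subtype.val this
    rw [Subgroup.coe_mul, Subgroup.coe_mul, map_mul, map_mul, h1]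
  have h1 := h _ hc
  have h2 : Nat.card (A.comap e.toMonoidHom) = Nat.card A := by
    refine Nat.card_congr ⟨fun x => ⟨e x, x.2⟩, fun y => ⟨e.symm y, ?_⟩, fun x => ?_, fun y => ?_⟩
    · show e (e.symm y) ∈ A
      rw [e.apply_symm_apply]; exact y.2
    · apply Subtype.ext; simp
    · apply Subtype.ext; simp
  rw [h2] at h1
  rwa [Nat.card_congr e.toEquiv] at h1

variable {F V : Type*} [Field F] [AddCommGroup V] [Module F V]

/-- a non-degenerate reflexive form, linear in the first and `σ`-semilinear in the second argument -/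
structure Form (σ : F →+* F) (B : V → V → F) : Prop where
  add_left : ∀ x y z, B (x + y) z = B x z + B y z
  add_right : ∀ x y z, B x (y + z) = B x y + B x z
  smul_left : ∀ (c : F) x y, B (c • x) y = c * B x y
  smul_right : ∀ (c : F) x y, B x (c • y) = σ c * B x y
  refl : ∀ x y, B x y = 0 → B y x = 0
  nondeg : ∀ x, (∀ y, B x y = 0) → x = 0

/-- the elements of `A` commute -/
def Comm {G : Type*} [Mul G] (A : Set G) : Prop := ∀ a ∈ A, ∀ b ∈ A, a * b = b * a

/-- `A` preserves the form `B` -/
def Iso (B : V → V → F) (A : Set (V ≃ₗ[F] V)) : Prop := ∀ a ∈ A, ∀ x y, B (a x) (a y) = B x y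

/-- `Q` is a quadratic form with polar form `B` -/
structure Quad (B : V → V → F) (Q : V → F) : Prop where
  smul : ∀ (c : F) x, Q (c • x) = c ^ 2 * Q x
  add : ∀ x y, Q (x + y) = Q x + Q y + B x y

end Cfsg.Agent.H157.Ab
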