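import Cfsg.Agent.H157.Ab.MixForm
import Cfsg.Agent.Lib.ThompsonPQ

/-!
# The mixture lemma: class two `p`-groups (helper157)

* `mix_H` : `H` a `p`-group of class `≤ 2` with `H/Z(H)` elementary abelian, `S` an abelian `p'`-group acting faithfully
  on `H` and trivially on `Z(H)`: an abelian `B ≤ H` with `|Z(H)| ^ v |S| ^ u ≤ |B| ^ v`.
-/

set_option autoImplicit false

namespace Cfsg.Agent.H157.Ab.MixH

open Subgroup
open scoped commutatorElement
open Cfsg.Agent.H157.Ab.MixForm

section

variable {H : Type*} [Group H] (hcl : ∀ x y : H, ⁅x, y⁆ ∈ center H)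

/-- the commutator, as an element of the centre -/
def cm (x y : H) : center H := ⟨⁅x, y⁆, hcl x y⟩

theorem cm_mul_right (x y z : H) : cm hcl x (y * z) = cm hcl x y * cm hcl x z := by
  apply Subtype.ext
  show ⁅x, y * z⁆ = ⁅x, y⁆ * ⁅x, z⁆
  have h1 : ⁅x, y * z⁆ = ⁅x, y⁆ * (y * ⁅x, z⁆ * y⁻¹) := by
    simp only [commutatorElement_def]; group
  have h2 : y * ⁅x, z⁆ * y⁻¹ = ⁅x, z⁆ := by
    rw [(mem_center_iff.1 (hcl x z)) y, mul_inv_cancel_right]
  rw [h1, h2]

theorem cm_mul_left (x y z : H) : cm hcl (x * y) z = cm hcl x z * cm hcl y z := by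
  apply Subtype.ext
  show ⁅x * y, z⁆ = ⁅x, z⁆ * ⁅y, z⁆
  have h1 : ⁅x * y, z⁆ = (x * ⁅y, z⁆ * x⁻¹) * ⁅x, z⁆ := by
    simp only [commutatorElement_def]; group
  have h2 : x * ⁅y, z⁆ * x⁻¹ = ⁅y, z⁆ := by
    rw [(mem_center_iff.1 (hcl y z)) x, mul_inv_cancel_right]
  rw [h1, h2]
  exact ((mem_center_iff.1 (hcl y z)) _).symm

/-- the quotient by the centre is commutative -/
@[reducible] def commQ (hcl : ∀ x y : H, ⁅x, y⁆ ∈ center H) : CommGroup (H ⧸ center H) :=
  { QuotientGroup.Quotient.group (center H) with
    mul_comm := by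
      intro a b
      refine Quotient.inductionOn₂ a b fun x y => ?_
      show ((x * y : H) : H ⧸ center H) = ((y * x : H) : H ⧸ center H)
      rw [QuotientGroup.eq]
      have h1 : (x * y)⁻¹ * (y * x) = ⁅y⁻¹, x⁻¹⁆ := by
        simp only [commutatorElement_def]; group
      rw [h1]
      exact hcl _ _ }

/-- the centre is commutative -/
@[reducible] def commZ (H : Type*) [Group H] : CommGroup (center H) :=
  { (inferInstance : Group (center H)) with
    mul_comm := fun a b => Subtype.ext ((mem_center_iff.1 b.2) a) }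

/-- the commutator form -/
def form (hcl : ∀ x y : H, ⁅x, y⁆ ∈ center H) :
    letI := commQ hcl
    letI := commZ H
    Additive (H ⧸ center H) →+ Additive (H ⧸ center H) →+ Additive (center H) :=
  letI := commQ hcl
  letI := commZ H
  let F1 : H → (H →* center H) := fun x => MonoidHom.mk' (fun y => cm hcl x y) (cm_mul_right hcl x)
  let F2 : H → ((H ⧸ center H) →* center H) := fun x => QuotientGroup.lift (center H) (F1 x) (by
    intro y hy
    apply Subtype.ext
    show ⁅x, y⁆ = 1
    rw [commutatorElement_eq_one_iff_mul_comm]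
    exact (mem_center_iff.1 hy) x)
  let F3 : H →* ((H ⧸ center H) →* center H) := MonoidHom.mk' F2 (by
    intro x y
    refine MonoidHom.ext fun q => ?_
    refine Quotient.inductionOn q fun z => ?_
    exact cm_mul_left hcl x y z)
  let F4 : (H ⧸ center H) →* ((H ⧸ center H) →* center H) := QuotientGroup.lift (center H) F3 (by
    intro x hx
    refine MonoidHom.ext fun q => ?_
    refine Quotient.inductionOn q fun z => ?_
    apply Subtype.ext
    show ⁅x, z⁆ = 1
    rw [commutatorElement_eq_one_iff_mul_comm]
    exact ((mem_center_iff.1 hx) z).symm)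
  AddMonoidHom.mk' (fun x => MonoidHom.toAdditive (F4 x.toMul)) (by
    intro x y
    refine AddMonoidHom.ext fun q => ?_
    show Additive.ofMul ((F4 (x.toMul * y.toMul)) q.toMul) = _
    rw [map_mul]
    rfl)

theorem form_apply (x y : H) : (letI := commQ hcl
    letI := commZ H
    (form hcl (Additive.ofMul ((x : H) : H ⧸ center H)) (Additive.ofMul ((y : H) : H ⧸ center H))).toMul) = cm hcl x y := rfl

end

section

variable {H : Type*} [Group H] [Finite H] {S : Type*} [CommGroup S] [Finite S]

/-- **Mixture, class two.** -/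
theorem mix_H (hcl : ∀ x y : H, ⁅x, y⁆ ∈ center H) {p : ℕ} [hpp : Fact p.Prime] (hH : IsPGroup p H)
    (hpow : ∀ x : H, x ^ p ∈ center H) (hS : ¬ p ∣ Nat.card S) (e : S →* MulAut H) (he : Function.Injective e)
    (hez : ∀ s, ∀ z ∈ center H, e s z = z) {u v : ℕ} (huv : u ≤ v)
    (huv' : ∀ f, 1 ≤ f → (p ^ f + 1) ^ u ≤ p ^ (f * v)) :
    ∃ B : Subgroup H, (∀ x ∈ B, ∀ y ∈ B, x * y = y * x) ∧ Nat.card (center H) ^ v * Nat.card S ^ u ≤ Nat.card B ^ v := by
  classical
  letI := commQ hcl
  letI := commZ H
  have hmap : ∀ s : S, center H ≤ (center H).comap (e s).toMonoidHom := by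
    intro s z hz
    rw [mem_comap]
    show e s z ∈ center H
    rw [hez s z hz]
    exact hz
  let qa : S → (H ⧸ center H) →* (H ⧸ center H) := fun s => QuotientGroup.map (center H) (center H) (e s).toMonoidHom (hmap s)
  have hqa : ∀ (s : S) (x : H), qa s (x : H ⧸ center H) = ((e s x : H) : H ⧸ center H) := fun s x => rfl
  letI : DistribMulAction S (Additive (H ⧸ center H)) :=
    { smul := fun s x => Additive.ofMul (qa s x.toMul)
      one_smul := by
        intro x
        refine Quotient.inductionOn (x.toMul) (motive := fun q => Additive.ofMul (qa 1 q) = Additive.ofMul q) fun z => ?_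
        show Additive.ofMul ((e 1 z : H) : H ⧸ center H) = Additive.ofMul ((z : H) : H ⧸ center H)
        rw [map_one]
        rfl
      mul_smul := by
        intro s t x
        refine Quotient.inductionOn (x.toMul)
          (motive := fun q => Additive.ofMul (qa (s * t) q) = Additive.ofMul (qa s (qa t q))) fun z => ?_
        show Additive.ofMul ((e (s * t) z : H) : H ⧸ center H) = Additive.ofMul ((e s (e t z) : H) : H ⧸ center H)
        rw [map_mul]
        rfl
      smul_zero := fun s => congrArg Additive.ofMul (map_one (qa s))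
      smul_add := fun s x y => congrArg Additive.ofMul (map_mul (qa s) x.toMul y.toMul) }
  have hsm : ∀ (s : S) (x : H), s • (Additive.ofMul ((x : H) : H ⧸ center H)) =
      Additive.ofMul ((e s x : H) : H ⧸ center H) := fun s x => rfl
  have hform : ∀ x y : H, form hcl (Additive.ofMul ((x : H) : H ⧸ center H)) (Additive.ofMul ((y : H) : H ⧸ center H)) =
      Additive.ofMul (cm hcl x y) := fun x y => rfl
  have hind : ∀ x : Additive (H ⧸ center H), ∃ y : H, x = Additive.ofMul ((y : H) : H ⧸ center H) := by
    intro x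
    obtain ⟨y, hy⟩ := QuotientGroup.mk_surjective (x.toMul)
    exact ⟨y, congrArg Additive.ofMul hy.symm⟩
  obtain ⟨Y, hY, hYc⟩ := exists_isotropic (S := S) (V := Additive (H ⧸ center H)) (W := Additive (center H)) (p := p)
    (by
      intro x
      obtain ⟨y, rfl⟩ := hind x
      show Additive.ofMul (((y : H) : H ⧸ center H) ^ p) = 0
      have : ((y : H) : H ⧸ center H) ^ p = 1 := by
        rw [← QuotientGroup.mk_pow, QuotientGroup.eq_one_iff]
        exact hpow y
      rw [this]
      rfl) hS (form hcl) (by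
      intro x
      obtain ⟨y, rfl⟩ := hind x
      rw [hform]
      have : cm hcl y y = 1 := Subtype.ext (commutatorElement_self y)
      rw [this]
      rfl) (by
      intro s x y
      obtain ⟨x, rfl⟩ := hind x
      obtain ⟨y, rfl⟩ := hind y
      rw [hsm, hsm, hform, hform]
      congr 1
      apply Subtype.ext
      show ⁅e s x, e s y⁆ = ⁅x, y⁆
      rw [← map_commutatorElement, hez s _ (hcl x y)]) huv huv'
  -- faithful on the quotient
  have hfx : Fx S (⊤ : AddSubgroup (Additive (H ⧸ center H))) = ⊥ := by
    rw [eq_bot_iff]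
    intro s hs
    rw [mem_bot]
    apply he
    rw [map_one]
    ext x
    show e s x = x
    -- `x⁻¹ * e s x` is central
    have h1 : ∀ x : H, ∃ z ∈ center H, e s x = x * z := by
      intro x
      have h2 := hs (Additive.ofMul ((x : H) : H ⧸ center H)) trivial
      rw [hsm] at h2
      have h3 : ((e s x : H) : H ⧸ center H) = (x : H ⧸ center H) := congrArg Additive.toMul h2
      have h4 := QuotientGroup.eq.1 h3.symm
      exact ⟨_, h4, by group⟩
    obtain ⟨z, hz, hxz⟩ := h1 x
    have h5 : ∀ n : ℕ, e (s ^ n) x = x * z ^ n := by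
      intro n
      induction n with
      | zero => simp
      | succ n ih =>
        rw [pow_succ', map_mul, MulAut.mul_apply, ih, map_mul, map_pow, hez s z hz, hxz, pow_succ' z n, mul_assoc]
    have h6 := h5 (orderOf s)
    rw [pow_orderOf_eq_one, map_one, MulAut.one_apply] at h6
    have h7 : z ^ orderOf s = 1 := by
      have : x * z ^ orderOf s = x * 1 := by rw [← h6, mul_one]
      exact mul_left_cancel this
    obtain ⟨k, hk⟩ := hH z
    have h8 : orderOf z ∣ Nat.gcd (orderOf s) (p ^ k) :=
      Nat.dvd_gcd (orderOf_dvd_of_pow_eq_one h7) (orderOf_dvd_of_pow_eq_one hk)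
    have h9 : Nat.Coprime (orderOf s) (p ^ k) := by
      apply Nat.Coprime.pow_right
      refine ((Nat.Prime.coprime_iff_not_dvd hpp.out).2 fun h => hS (h.trans (orderOf_dvd_natCard s))).symm
    rw [h9, Nat.dvd_one, orderOf_eq_one_iff] at h8
    rw [hxz, h8, mul_one]
  rw [hfx, Subgroup.index_bot] at hYc
  -- the preimage
  let B : Subgroup H := (AddSubgroup.toSubgroup' Y).comap (QuotientGroup.mk' (center H))
  have hB : ∀ x : H, x ∈ B ↔ Additive.ofMul ((x : H) : H ⧸ center H) ∈ Y := fun x => Iff.rfl
  refine ⟨B, fun x hx y hy => ?_, ?_⟩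
  · have h1 := hY _ ((hB x).1 hx) _ ((hB y).1 hy)
    rw [hform] at h1
    have h2 : cm hcl x y = 1 := Additive.ofMul.injective h1
    have h3 : ⁅x, y⁆ = 1 := congrArg Subtype.val h2
    exact commutatorElement_eq_one_iff_mul_comm.1 h3
  · have h1 : Nat.card B = Nat.card (center H) * Nat.card Y := by
      have h2 : center H ≤ B := by
        intro z hz
        rw [hB]
        have : ((z : H) : H ⧸ center H) = 1 := (QuotientGroup.eq_one_iff z).2 hz
        rw [this]
        exact Y.zero_mem
      have h3 := (center H).card_mul_index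
      have h4 : B.index * Nat.card Y = (center H).index := by
        have h5 : B.index = (AddSubgroup.toSubgroup' Y).index :=
          Subgroup.index_comap_of_surjective _ (QuotientGroup.mk'_surjective _)
        have h6 : Nat.card (AddSubgroup.toSubgroup' Y : Subgroup (H ⧸ center H)) = Nat.card Y := rfl
        rw [h5, ← h6, Subgroup.index_mul_card]
        rfl
      have h7 := B.card_mul_index
      have h8 : B.index ≠ 0 := Subgroup.index_ne_zero_of_finite
      apply Nat.eq_of_mul_eq_mul_right (Nat.pos_of_ne_zero h8)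
      rw [h7, ← h3, ← h4]
      ring
    rw [h1, mul_pow]
    exact Nat.mul_le_mul_left _ hYc

end

end Cfsg.Agent.H157.Ab.MixH
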