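import Cfsg.Agent.H157.Ab.MixC
import Cfsg.Agent.H157.Ab.MixH
import Cfsg.Agent.Lib.FrattiniPGroup
import Cfsg.Agent.Lib.Cores
import Cfsg.Agent.BpLieP.Big
import Cfsg.Agent.S0093
import Cfsg.Agent.S0121

/-!
# The mixture lemma (helper157)

* `mix_C` : `C` a `p`-group, `S` an abelian `p'`-group acting faithfully on `C`, `P ≤ Z(C)` centralised by `S`: an abelian
  `B ≤ C` with `(|P||S|) ^ v ≤ |B| ^ v |S| ^ (v - u)`;
* `mix` : `G` with `p`-local subgroups of characteristic `p`, `A` abelian, `p ∣ |A|`: an abelian `p`-subgroup `B` and an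
  abelian `p'`-subgroup `S ≤ A` with `|A| ^ v ≤ |B| ^ v |S| ^ (v - u)`.
-/

set_option autoImplicit false

namespace Cfsg.Agent.H157.Ab.Mix

open Subgroup
open scoped commutatorElement

variable {G : Type*} [Group G] [Finite G]

/-- an abelian subgroup as a commutative group -/
@[reducible] def commS {G : Type*} [Group G] {S : Subgroup G} (hS : ∀ x ∈ S, ∀ y ∈ S, x * y = y * x) : CommGroup S :=
  { (inferInstance : Group S) with
    mul_comm := fun a b => Subtype.ext (hS a a.2 b b.2) }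

/-- **Mixture in a `p`-group.** -/
theorem mix_C {p : ℕ} [hpp : Fact p.Prime] {C S P : Subgroup G} (hC : IsPGroup p C)
    (hSc : ∀ x ∈ S, ∀ y ∈ S, x * y = y * x) (hSp : ¬ p ∣ Nat.card S) (hSC : S ≤ normalizer (C : Set G))
    (hPC : P ≤ C) (hPz : ∀ x ∈ P, ∀ y ∈ C, x * y = y * x) (hPS : ∀ x ∈ P, ∀ s ∈ S, x * s = s * x)
    (hf : S ⊓ centralizer (C : Set G) = ⊥) {u v : ℕ} (huv : u ≤ v)
    (huv' : ∀ f, 1 ≤ f → (p ^ f + 1) ^ u ≤ p ^ (f * v)) :
    ∃ B : Subgroup G, B ≤ C ∧ (∀ x ∈ B, ∀ y ∈ B, x * y = y * x) ∧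
      (Nat.card P * Nat.card S) ^ v ≤ Nat.card B ^ v * Nat.card S ^ (v - u) := by
  classical
  -- the critical subgroup
  obtain ⟨H, hchar, h1, h2, h3⟩ := S0093.result hC
  let act : S →* MulAut C := (Subgroup.normalizerMonoidHom C).comp (Subgroup.inclusion hSC)
  have hact : ∀ (s : S) (c : C), ((act s c : C) : G) = s * c * (s : G)⁻¹ := fun s c => rfl
  set D : Subgroup G := H.map C.subtype with hD
  have hDC : D ≤ C := by rintro _ ⟨x, -, rfl⟩; exact x.2
  have hmemD : ∀ x : C, x ∈ H ↔ (x : G) ∈ D := by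
    intro x
    constructor
    · exact fun h => ⟨x, h, rfl⟩
    · rintro ⟨y, hy, hyx⟩
      have : y = x := Subtype.ext hyx
      rwa [← this]
  -- `S` normalises `D`
  have hconj : ∀ s ∈ S, ∀ x ∈ D, s * x * s⁻¹ ∈ D := by
    rintro s hs x hx
    have hxC : x ∈ C := hDC hx
    have h4 : (⟨x, hxC⟩ : C) ∈ H := (hmemD ⟨x, hxC⟩).2 hx
    have h5 := hchar.fixed (act ⟨s, hs⟩)
    have h6 : (⟨x, hxC⟩ : C) ∈ H.comap (act ⟨s, hs⟩).toMonoidHom := by rw [h5]; exact h4
    exact (hmemD _).1 h6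
  have hSD : S ≤ normalizer (D : Set G) := by
    intro s hs
    rw [mem_normalizer_iff]
    intro x
    constructor
    · exact hconj s hs x
    · intro h
      have := hconj s⁻¹ (inv_mem hs) _ h
      rw [inv_inv] at this
      have e : s⁻¹ * (s * x * s⁻¹) * s = x := by group
      rwa [e] at this
  have hDp : IsPGroup p D := hC.to_le hDC
  -- faithful on `D`
  have hfD : S ⊓ centralizer (D : Set G) = ⊥ := by
    rw [eq_bot_iff]
    rintro s ⟨hs, hsc⟩
    have h4 : act ⟨s, hs⟩ = 1 := by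
      refine S0121.result hC H hchar h1 h2 h3 (act ⟨s, hs⟩) ?_ ?_
      · have h5 : orderOf (act ⟨s, hs⟩) ∣ Nat.card S := (orderOf_map_dvd act _).trans (orderOf_dvd_natCard _)
        exact Nat.Coprime.coprime_dvd_left h5 ((Nat.Prime.coprime_iff_not_dvd hpp.out).2 hSp).symm
      · intro x hx
        apply Subtype.ext
        rw [hact]
        show s * (x : G) * s⁻¹ = x
        have h5 : (x : G) * s = s * x := mem_centralizer_iff.1 hsc x ((hmemD x).1 hx)
        rw [← h5, mul_inv_cancel_right]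
    have h5 : s ∈ S ⊓ centralizer (C : Set G) := by
      refine ⟨hs, mem_centralizer_iff.2 fun x hx => ?_⟩
      have h6 : act ⟨s, hs⟩ ⟨x, hx⟩ = ⟨x, hx⟩ := by rw [h4]; rfl
      have h7 : s * x * s⁻¹ = x := congrArg Subtype.val h6
      rw [mul_inv_eq_iff_eq_mul] at h7
      exact h7.symm
    rw [hf] at h5
    exact h5
  -- the centre
  set Z : Subgroup G := D ⊓ centralizer (D : Set G) with hZ
  have hcard : Nat.card (center D) = Nat.card Z := by
    have h4 : (center D).map D.subtype = Z := by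
      ext x
      constructor
      · rintro ⟨y, hy, rfl⟩
        refine ⟨y.2, mem_centralizer_iff.2 fun z hz => ?_⟩
        exact congrArg Subtype.val (mem_center_iff.1 hy ⟨z, hz⟩)
      · rintro ⟨hx, hxc⟩
        refine ⟨⟨x, hx⟩, mem_center_iff.2 fun z => Subtype.ext ?_, rfl⟩
        exact mem_centralizer_iff.1 hxc z z.2
    rw [← h4]
    exact Nat.card_congr (Subgroup.equivMapOfInjective _ _ (Subgroup.subtype_injective _)).toEquiv
  have hZc : ∀ x ∈ Z, ∀ y ∈ Z, x * y = y * x := fun x hx y hy => mem_centralizer_iff.1 hy.2 x hx.1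
  have hSZ : S ≤ normalizer (Z : Set G) := by
    have h4 : ∀ s ∈ S, ∀ x ∈ Z, s * x * s⁻¹ ∈ Z := by
      intro s hs x hx
      refine ⟨hconj s hs x hx.1, mem_centralizer_iff.2 fun d hd => ?_⟩
      have h5 : s⁻¹ * d * s ∈ D := by
        have := hconj s⁻¹ (inv_mem hs) d hd
        rwa [inv_inv] at this
      have h6 := mem_centralizer_iff.1 hx.2 _ h5
      calc d * (s * x * s⁻¹) = s * ((s⁻¹ * d * s) * x) * s⁻¹ := by group
        _ = s * (x * (s⁻¹ * d * s)) * s⁻¹ := by rw [h6]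
        _ = s * x * s⁻¹ * d := by group
    intro s hs
    rw [mem_normalizer_iff]
    intro x
    constructor
    · exact h4 s hs x
    · intro h
      have := h4 s⁻¹ (inv_mem hs) _ h
      rw [inv_inv] at this
      have e : s⁻¹ * (s * x * s⁻¹) * s = x := by group
      rwa [e] at this
  have hcopZ : (Nat.card S).Coprime (Nat.card Z) := by
    obtain ⟨k, hk⟩ := IsPGroup.iff_card.1 (hDp.to_le (inf_le_left : Z ≤ D))
    rw [hk]
    exact Nat.Coprime.pow_right _ ((Nat.Prime.coprime_iff_not_dvd hpp.out).2 hSp).symm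
  have hA := card_mul_le hSc hZc hSZ hcopZ
  have hPZ : P ≤ Z ⊓ centralizer (S : Set G) := by
    intro x hx
    have hxC := hPC hx
    have h4 : (⟨x, hxC⟩ : C) ∈ centralizer (H : Set C) := by
      rw [mem_centralizer_iff]
      intro y _
      exact Subtype.ext (hPz x hx y y.2).symm
    have h5 : x ∈ D := (hmemD ⟨x, hxC⟩).1 (h3 h4)
    refine ⟨⟨h5, mem_centralizer_iff.2 fun d hd => (hPz x hx d (hDC hd)).symm⟩, mem_centralizer_iff.2 fun s hs => ?_⟩
    exact (hPS x hx s hs).symm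
  set S1 : Subgroup G := S ⊓ centralizer (Z : Set G) with hS1
  have hB1 : Nat.card P * Nat.card S ≤ Nat.card Z * Nat.card S1 := by
    refine le_trans ?_ hA
    rw [mul_comm]
    exact Nat.mul_le_mul_left _ (card_le_of_le hPZ)
  -- the class two part
  have hS1D : S1 ≤ normalizer (D : Set G) := inf_le_left.trans hSD
  letI : CommGroup S1 := commS (fun x hx y hy => hSc x hx.1 y hy.1)
  let e : S1 →* MulAut D := (Subgroup.normalizerMonoidHom D).comp (Subgroup.inclusion hS1D)
  have he : ∀ (s : S1) (c : D), ((e s c : D) : G) = s * c * (s : G)⁻¹ := fun s c => rfl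
  have hS1p : ¬ p ∣ Nat.card S1 := fun h => hSp (h.trans (card_dvd_of_le (inf_le_left : S1 ≤ S)))
  obtain ⟨B, hBc, hB⟩ := MixH.mix_H (H := D) (S := S1) (p := p) (by
      intro x y
      rw [mem_center_iff]
      intro z
      have h4 : ⁅(⟨x, hDC x.2⟩ : C), (⟨y, hDC y.2⟩ : C)⁆ ∈ ⁅H, (⊤ : Subgroup C)⁆ :=
        commutator_mem_commutator ((hmemD ⟨x, hDC x.2⟩).2 x.2) trivial
      have h5 := (h2 h4).2
      have h6 := mem_centralizer_iff.1 h5 ⟨z, hDC z.2⟩ ((hmemD ⟨z, hDC z.2⟩).2 z.2)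
      have h7 := congrArg Subtype.val h6
      exact Subtype.ext h7) hDp (by
      intro x
      rw [mem_center_iff]
      intro z
      have hHp : IsPGroup p H := hC.to_subgroup H
      have h4 : (⟨⟨x, hDC x.2⟩, (hmemD ⟨x, hDC x.2⟩).2 x.2⟩ : H) ^ p ∈ frattini H :=
        Lib.FrattiniPGroup.pow_mem_frattini hHp _
      have h5 : ((⟨x, hDC x.2⟩ : C)) ^ p ∈ (frattini H).map H.subtype := ⟨_, h4, rfl⟩
      have h6 := mem_centralizer_iff.1 (h1 h5) ⟨z, hDC z.2⟩ ((hmemD ⟨z, hDC z.2⟩).2 z.2)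
      have h7 := congrArg Subtype.val h6
      exact Subtype.ext h7) hS1p e (by
      rw [injective_iff_map_eq_one]
      intro s hs
      have h4 : (s : G) ∈ S ⊓ centralizer (D : Set G) := by
        refine ⟨s.2.1, mem_centralizer_iff.2 fun d hd => ?_⟩
        have h5 : e s ⟨d, hd⟩ = ⟨d, hd⟩ := by rw [hs]; rfl
        have h6 : (s : G) * d * (s : G)⁻¹ = d := congrArg Subtype.val h5
        rw [mul_inv_eq_iff_eq_mul] at h6
        exact h6.symm
      rw [hfD] at h4
      exact Subtype.ext (mem_bot.1 h4)) (by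
      intro s z hz
      apply Subtype.ext
      rw [he]
      have h4 : (z : G) ∈ Z := ⟨z.2, mem_centralizer_iff.2 fun d hd => congrArg Subtype.val (mem_center_iff.1 hz ⟨d, hd⟩)⟩
      have h5 := mem_centralizer_iff.1 s.2.2 z h4
      rw [← h5, mul_inv_cancel_right]) huv huv'
  refine ⟨B.map D.subtype, ?_, ?_, ?_⟩
  · rintro _ ⟨x, -, rfl⟩
    exact hDC x.2
  · rintro _ ⟨x, hx, rfl⟩ _ ⟨y, hy, rfl⟩
    exact congrArg Subtype.val (hBc x hx y hy)
  · have h4 : Nat.card (B.map D.subtype) = Nat.card B :=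
      Nat.card_congr (Subgroup.equivMapOfInjective _ _ (Subgroup.subtype_injective _)).symm.toEquiv
    rw [h4]
    calc (Nat.card P * Nat.card S) ^ v ≤ (Nat.card Z * Nat.card S1) ^ v := Nat.pow_le_pow_left hB1 v
      _ = (Nat.card (center D) ^ v * Nat.card S1 ^ u) * Nat.card S1 ^ (v - u) := by
          rw [mul_pow, hcard, mul_assoc, ← pow_add, Nat.add_sub_cancel' huv]
      _ ≤ Nat.card B ^ v * Nat.card S ^ (v - u) :=
          Nat.mul_le_mul hB (Nat.pow_le_pow_left (card_le_of_le (inf_le_left : S1 ≤ S)) _)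

/-- **The mixture lemma.** -/
theorem mix {p : ℕ} [hpp : Fact p.Prime] (hG : BpLieP.Big.LocChar p G) {A : Subgroup G}
    (hA : ∀ x ∈ A, ∀ y ∈ A, x * y = y * x) (hpA : p ∣ Nat.card A) {u v : ℕ} (huv : u ≤ v)
    (huv' : ∀ f, 1 ≤ f → (p ^ f + 1) ^ u ≤ p ^ (f * v)) :
    ∃ B S : Subgroup G, (∀ x ∈ B, ∀ y ∈ B, x * y = y * x) ∧ IsPGroup p B ∧ S ≤ A ∧ ¬ p ∣ Nat.card S ∧
      Nat.card A ^ v ≤ Nat.card B ^ v * Nat.card S ^ (v - u) := by
  classical
  letI : CommGroup A := commS hA
  obtain ⟨P0⟩ : Nonempty (Sylow p A) := inferInstance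
  obtain ⟨K, hK⟩ := Subgroup.exists_right_complement'_of_coprime (N := (P0 : Subgroup A)) P0.card_coprime_index
  have hPK : Nat.card P0 * Nat.card K = Nat.card A := hK.card_mul_card
  set P : Subgroup G := (P0 : Subgroup A).map A.subtype with hP
  set S : Subgroup G := K.map A.subtype with hS
  have hPA : P ≤ A := by rintro _ ⟨x, -, rfl⟩; exact x.2
  have hSA : S ≤ A := by rintro _ ⟨x, -, rfl⟩; exact x.2
  have cP : Nat.card P = Nat.card P0 :=
    Nat.card_congr (Subgroup.equivMapOfInjective _ _ (Subgroup.subtype_injective _)).symm.toEquiv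
  have cS : Nat.card S = Nat.card K :=
    Nat.card_congr (Subgroup.equivMapOfInjective _ _ (Subgroup.subtype_injective _)).symm.toEquiv
  have hPp : IsPGroup p P := P0.2.map _
  have hSp : ¬ p ∣ Nat.card S := by
    rw [cS]
    have h1 : (P0 : Subgroup A).index = Nat.card K := hK.symm.index_eq_card
    rw [← h1]
    exact P0.not_dvd_index
  have hP1 : P ≠ ⊥ := by
    intro h
    have h1 : Nat.card P0 = 1 := by rw [← cP, h, Subgroup.card_bot]
    have h2 := P0.dvd_card_of_dvd_card hpA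
    rw [h1] at h2
    exact hpp.out.one_lt.ne' (Nat.dvd_one.1 h2)
  -- the local subgroup
  have hloc := hG P hPp hP1
  set N : Subgroup G := normalizer (P : Set G) with hN
  have hSN : S ≤ N := by
    intro s hs
    rw [hN, mem_normalizer_iff]
    intro x
    constructor
    · intro hx
      rw [hA s (hSA hs) x (hPA hx), mul_inv_cancel_right]; exact hx
    · intro hx
      have h1 : s⁻¹ * (s * x * s⁻¹) * s = x := by group
      rw [← h1, hA s⁻¹ (inv_mem (hSA hs)) _ (hPA hx), inv_mul_cancel_right]; exact hx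
  set Q : Subgroup G := (Cfsg.pCore p N).map N.subtype with hQ
  have hQp : IsPGroup p Q := (Lib.Cores.pCore_isPGroup (G := N) p).map _
  have hPN : P ≤ N := le_normalizer
  have hPQ : P ≤ Q := by
    have h1 : P.subgroupOf N ≤ Cfsg.pCore p N := by
      refine Lib.Cores.le_pCore ?_ ?_
      · exact normal_subgroupOf_of_le_normalizer le_rfl
      · exact hPp.comap_of_injective _ (Subgroup.subtype_injective _)
    intro x hx
    exact ⟨⟨x, hPN hx⟩, h1 hx, rfl⟩
  have hQn : (Cfsg.pCore p N).Normal := inferInstance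
  have hNQ : ∀ n ∈ N, ∀ x ∈ Q, n * x * n⁻¹ ∈ Q := by
    rintro n hn _ ⟨x, hx, rfl⟩
    exact ⟨⟨n, hn⟩ * x * ⟨n, hn⟩⁻¹, hQn.conj_mem x hx _, rfl⟩
  have hNQ' : N ≤ normalizer (Q : Set G) := by
    intro n hn
    rw [mem_normalizer_iff]
    intro x
    constructor
    · exact hNQ n hn x
    · intro h
      have := hNQ n⁻¹ (inv_mem hn) _ h
      rw [inv_inv] at this
      have e : n⁻¹ * (n * x * n⁻¹) * n = x := by group
      rwa [e] at this
  -- `S` is faithful on `Q`
  have hSQ : S ⊓ centralizer (Q : Set G) = ⊥ := by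
    rw [eq_bot_iff]
    rintro s ⟨hs, hsc⟩
    have h1 : (⟨s, hSN hs⟩ : N) ∈ centralizer (Cfsg.pCore p N : Set N) := by
      rw [mem_centralizer_iff]
      intro x hx
      exact Subtype.ext (mem_centralizer_iff.1 hsc x ⟨x, hx, rfl⟩)
    have h2 := hloc h1
    obtain ⟨k, hk⟩ := (Lib.Cores.pCore_isPGroup (G := N) p) ⟨_, h2⟩
    have h3 : s ^ p ^ k = 1 := by
      have := congrArg (fun z : Cfsg.pCore p N => ((z : N) : G)) hk
      exact this
    have h4 : orderOf s ∣ Nat.gcd (Nat.card S) (p ^ k) := by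
      refine Nat.dvd_gcd ?_ (orderOf_dvd_of_pow_eq_one h3)
      rw [← Subgroup.orderOf_mk s hs]
      exact orderOf_dvd_natCard _
    have h5 : Nat.Coprime (Nat.card S) (p ^ k) :=
      Nat.Coprime.pow_right _ ((Nat.Prime.coprime_iff_not_dvd hpp.out).2 hSp).symm
    rw [h5, Nat.dvd_one, orderOf_eq_one_iff] at h4
    rw [h4]
    exact one_mem _
  set C : Subgroup G := Q ⊓ centralizer (P : Set G) with hC
  have hfC : S ⊓ centralizer (C : Set G) = ⊥ := by
    have hSc : Nat.Coprime (Nat.card (S ⊓ centralizer (C : Set G) : Subgroup G)) p :=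
      Nat.Coprime.coprime_dvd_left (card_dvd_of_le inf_le_left)
        ((Nat.Prime.coprime_iff_not_dvd hpp.out).2 hSp).symm
    have h1 := Lib.ThompsonPQ.thompson_p_times_q p P (S ⊓ centralizer (C : Set G)) Q hPp hSc hQp
      (by
        intro x hx
        rw [mem_centralizer_iff]
        rintro s ⟨hs, -⟩
        exact hA s (hSA hs) x (hPA hx))
      ((hPN).trans hNQ') ((inf_le_left.trans hSN).trans hNQ')
      (by
        intro x hx
        rw [mem_centralizer_iff]
        rintro s ⟨-, hs⟩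
        exact (mem_centralizer_iff.1 hs x hx).symm)
    rw [eq_bot_iff, ← hSQ]
    exact le_inf inf_le_left h1
  have hSC : S ≤ normalizer (C : Set G) := by
    have h1 : ∀ s ∈ S, ∀ x ∈ C, s * x * s⁻¹ ∈ C := by
      rintro s hs x ⟨hx, hxc⟩
      refine ⟨hNQ s (hSN hs) x hx, mem_centralizer_iff.2 fun y hy => ?_⟩
      have h2 : y * s = s * y := hA y (hPA hy) s (hSA hs)
      have h3 : y * s⁻¹ = s⁻¹ * y := hA y (hPA hy) s⁻¹ (inv_mem (hSA hs))
      have h4 : y * x = x * y := mem_centralizer_iff.1 hxc y hy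
      calc y * (s * x * s⁻¹) = (y * s) * x * s⁻¹ := by group
        _ = s * (y * x) * s⁻¹ := by rw [h2]; group
        _ = s * x * (y * s⁻¹) := by rw [h4]; group
        _ = s * x * s⁻¹ * y := by rw [h3]; group
    intro s hs
    rw [mem_normalizer_iff]
    intro x
    constructor
    · exact h1 s hs x
    · intro h
      have := h1 s⁻¹ (inv_mem hs) _ h
      rw [inv_inv] at this
      have e : s⁻¹ * (s * x * s⁻¹) * s = x := by group
      rwa [e] at this
  obtain ⟨B, hBC, hBc, hB⟩ := mix_C (p := p) (C := C) (S := S) (P := P) (hQp.to_le inf_le_left)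
    (fun x hx y hy => hA x (hSA hx) y (hSA hy)) hSp hSC
    (le_inf hPQ (fun x hx => mem_centralizer_iff.2 fun y hy => hA y (hPA hy) x (hPA hx)))
    (fun x hx y hy => mem_centralizer_iff.1 hy.2 x hx)
    (fun x hx s hs => hA x (hPA hx) s (hSA hs)) hfC huv huv'
  refine ⟨B, S, hBc, hQp.to_le (hBC.trans inf_le_left), hSA, hSp, ?_⟩
  rw [cP, cS, hPK] at hB
  rw [cS]
  exact hB

end Cfsg.Agent.H157.Ab.Mix
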