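import Cfsg.Agent.H157.Ab.MixForm
import Cfsg.Agent.Lib.CoprimeAbelian
import Cfsg.Agent.Lib.ThompsonPQ

/-!
# The mixture lemma, the class two part (helper157)

* `card_mul_le` : `S`, `V` abelian, `S` normalises `V`, coprime: `|S| |C_V(S)| ≤ |V| |C_S(V)|`;
* `mix_D` : `S` an abelian `p'`-group acting faithfully on a `p`-group `D` of class `≤ 2` with `D/Z(D)` elementary
  abelian, `P ≤ Z(D)` centralised by `S`: an abelian `B ≤ D` with `(|P||S|) ^ v ≤ |B| ^ v |S| ^ (v - u)`.
-/

set_option autoImplicit false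

namespace Cfsg.Agent.H157.Ab.Mix

open Subgroup
open Cfsg.Agent.H157.Ab.MixForm

variable {G : Type*} [Group G] [Finite G]

theorem card_mul_le {S V : Subgroup G} (hS : ∀ x ∈ S, ∀ y ∈ S, x * y = y * x) (hV : ∀ x ∈ V, ∀ y ∈ V, x * y = y * x)
    (hSV : S ≤ normalizer (V : Set G)) (hcop : (Nat.card S).Coprime (Nat.card V)) :
    Nat.card S * Nat.card (V ⊓ centralizer (S : Set G) : Subgroup G) ≤
      Nat.card V * Nat.card (S ⊓ centralizer (V : Set G) : Subgroup G) := by
  classical
  -- a vector with minimal stabiliser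
  obtain ⟨w, hw, hmin⟩ := Set.exists_min_image (V : Set G)
    (fun w => Nat.card (S ⊓ centralizer ({w} : Set G) : Subgroup G)) (Set.toFinite _) ⟨1, V.one_mem⟩
  set T := S ⊓ centralizer ({w} : Set G) with hT
  have hTS : T ≤ S := inf_le_left
  have hTV : T ≤ normalizer (V : Set G) := hTS.trans hSV
  have hTcop : (Nat.card T).Coprime (Nat.card V) := Nat.Coprime.coprime_dvd_left (card_dvd_of_le hTS) hcop
  have hconjV : ∀ s ∈ S, ∀ x ∈ V, s * x * s⁻¹ ∈ V := fun s hs x hx =>
    (mem_normalizer_iff.1 (hSV hs) x).1 hx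
  have hTle : T ≤ centralizer (V : Set G) := by
    by_contra hne
    have h1 := CoprimeAb T V hV hTV hTcop
    have h2 : ⁅V, T⁆ ≠ ⊥ := by
      intro h
      apply hne
      rw [commutator_eq_bot_iff_le_centralizer] at h
      exact le_centralizer_iff.1 h
    have hVT : ⁅V, T⁆ ≤ V := by
      rw [commutator_le]
      intro x hx t ht
      rw [commutatorElement_def, mul_assoc, mul_assoc, ← mul_assoc t]
      exact mul_mem hx (hconjV t (hTS ht) _ (inv_mem hx))
    obtain ⟨x, hx, hx1⟩ : ∃ x ∈ ⁅V, T⁆, x ≠ 1 := by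
      by_contra hcon
      push Not at hcon
      exact h2 (eq_bot_iff.2 fun x hx => mem_bot.2 (hcon x hx))
    have hxV : x ∈ V := hVT hx
    -- the new vector
    have hle : S ⊓ centralizer ({w * x} : Set G) ≤ T ⊓ centralizer ({x} : Set G) := by
      rintro s ⟨hs, hsc'⟩
      have hsc : s * (w * x) = w * x * s := mem_centralizer_singleton_iff.1 hsc'
      -- components
      have hswV : w⁻¹ * (s * w * s⁻¹) ∈ V := mul_mem (inv_mem hw) (hconjV s hs w hw)
      have hswT : w⁻¹ * (s * w * s⁻¹) ∈ centralizer (T : Set G) := by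
        rw [mem_centralizer_iff]
        intro t ht
        have htw : t * w = w * t := mem_centralizer_singleton_iff.1 ht.2
        have hts : t * s = s * t := hS t (hTS ht) s hs
        have htw' : t * w⁻¹ = w⁻¹ * t := by
          rw [eq_inv_mul_iff_mul_eq, ← mul_assoc, ← htw, mul_inv_cancel_right]
        have hts' : t * s⁻¹ = s⁻¹ * t := by
          rw [eq_inv_mul_iff_mul_eq, ← mul_assoc, ← hts, mul_inv_cancel_right]
        calc t * (w⁻¹ * (s * w * s⁻¹)) = (t * w⁻¹) * s * w * s⁻¹ := by group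
          _ = w⁻¹ * (t * s) * w * s⁻¹ := by rw [htw']; group
          _ = w⁻¹ * s * (t * w) * s⁻¹ := by rw [hts]; group
          _ = w⁻¹ * s * w * (t * s⁻¹) := by rw [htw]; group
          _ = w⁻¹ * (s * w * s⁻¹) * t := by rw [hts']; group
      have hsx : x * (s * x * s⁻¹)⁻¹ ∈ ⁅V, T⁆ := by
        refine mul_mem hx (inv_mem ?_)
        -- `s` normalises `⁅V, T⁆`
        have h3 : ∀ y ∈ ⁅V, T⁆, s * y * s⁻¹ ∈ ⁅V, T⁆ := by
          intro y hy
          have h4 : (⁅V, T⁆).map (MulAut.conj s).toMonoidHom ≤ ⁅V, T⁆ := by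
            rw [map_commutator]
            apply commutator_mono
            · rintro _ ⟨z, hz, rfl⟩
              exact hconjV s hs z hz
            · rintro _ ⟨z, hz, rfl⟩
              show s * z * s⁻¹ ∈ T
              rw [hS s hs z (hTS hz), mul_inv_cancel_right]
              exact hz
          exact h4 ⟨y, hy, rfl⟩
        exact h3 x hx
      have heq : w⁻¹ * (s * w * s⁻¹) = x * (s * x * s⁻¹)⁻¹ := by
        rw [eq_mul_inv_iff_mul_eq, mul_assoc, inv_mul_eq_iff_eq_mul]
        calc s * w * s⁻¹ * (s * x * s⁻¹) = s * (w * x) * s⁻¹ := by group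
          _ = w * x := by rw [hsc, mul_inv_cancel_right]
      have h5 : w⁻¹ * (s * w * s⁻¹) = 1 := by
        have : w⁻¹ * (s * w * s⁻¹) ∈ (V ⊓ centralizer (T : Set G)) ⊓ ⁅V, T⁆ :=
          ⟨⟨hswV, hswT⟩, by rw [heq]; exact hsx⟩
        rw [h1] at this
        exact mem_bot.1 this
      have h6 : x * (s * x * s⁻¹)⁻¹ = 1 := by rw [← heq, h5]
      have hsw : s * w = w * s := by
        rw [inv_mul_eq_one, eq_mul_inv_iff_mul_eq] at h5
        exact h5.symm
      have hsx' : s * x = x * s := by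
        rw [mul_inv_eq_one, eq_mul_inv_iff_mul_eq] at h6
        exact h6.symm
      exact ⟨⟨hs, mem_centralizer_singleton_iff.2 hsw⟩, mem_centralizer_singleton_iff.2 hsx'⟩
    have hlt : T ⊓ centralizer ({x} : Set G) < T := by
      refine lt_of_le_of_ne inf_le_left fun h => hx1 ?_
      have h7 : x ∈ (V ⊓ centralizer (T : Set G)) ⊓ ⁅V, T⁆ := by
        refine ⟨⟨hxV, mem_centralizer_iff.2 ?_⟩, hx⟩
        intro t ht
        have : t ∈ T ⊓ centralizer ({x} : Set G) := by rw [h]; exact ht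
        exact mem_centralizer_singleton_iff.1 this.2
      rw [h1] at h7
      exact mem_bot.1 h7
    have h8 := hmin (w * x) (V.mul_mem hw hxV)
    have h9 : Nat.card (S ⊓ centralizer ({w * x} : Set G) : Subgroup G) < Nat.card T := by
      have h10 : S ⊓ centralizer ({w * x} : Set G) < T := lt_of_le_of_lt hle hlt
      exact Set.ncard_lt_ncard h10 (Set.toFinite _)
    exact absurd h8 (not_le.2 h9)
  -- the injection
  have h1 := CoprimeAb S V hV hSV hcop
  have hinj : Nat.card (V ⊓ centralizer (S : Set G) : Subgroup G) * (T.subgroupOf S).index ≤ Nat.card V := by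
    rw [Subgroup.index, ← Nat.card_prod]
    have hwd : ∀ s t : S, QuotientGroup.leftRel (T.subgroupOf S) s t →
        (s : G) * w * (s : G)⁻¹ = t * w * (t : G)⁻¹ := by
      intro s t hst
      have h3 : s⁻¹ * t ∈ T.subgroupOf S := QuotientGroup.leftRel_apply.1 hst
      have h4 : (s : G)⁻¹ * t * w = w * ((s : G)⁻¹ * t) := mem_centralizer_singleton_iff.1 h3.2
      have h5 : (t : G) * w * (t : G)⁻¹ = s * (((s : G)⁻¹ * t * w) * (t : G)⁻¹) := by group
      rw [h5, h4]
      group
    let F : (V ⊓ centralizer (S : Set G) : Subgroup G) × (S ⧸ T.subgroupOf S) → V := fun q =>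
      Quotient.lift (fun s : S => (⟨(q.1 : G) * ((s : G) * w * (s : G)⁻¹), mul_mem q.1.2.1 (hconjV s s.2 w hw)⟩ : V))
        (fun s t hst => Subtype.ext (by
          show (q.1 : G) * ((s : G) * w * (s : G)⁻¹) = (q.1 : G) * ((t : G) * w * (t : G)⁻¹)
          rw [hwd s t hst])) q.2
    refine Nat.card_le_card_of_injective F ?_
    rintro ⟨c, q⟩ ⟨d, r⟩
    refine Quotient.inductionOn₂ q r fun s t h => ?_
    have h2 : (c : G) * ((s : G) * w * (s : G)⁻¹) = (d : G) * ((t : G) * w * (t : G)⁻¹) := congrArg Subtype.val h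
    have hswV : (s : G) * w * (s : G)⁻¹ ∈ V := hconjV s s.2 w hw
    have htwV : (t : G) * w * (t : G)⁻¹ ∈ V := hconjV t t.2 w hw
    have h3 : (d : G)⁻¹ * c = ((t : G) * w * (t : G)⁻¹) * ((s : G) * w * (s : G)⁻¹)⁻¹ := by
      rw [eq_mul_inv_iff_mul_eq, mul_assoc, h2, inv_mul_cancel_left]
    have h4 : ((t : G) * w * (t : G)⁻¹) * ((s : G) * w * (s : G)⁻¹)⁻¹ ∈ ⁅V, S⁆ := by
      have e1 : ∀ s : S, (s : G) * w * (s : G)⁻¹ * w⁻¹ ∈ ⁅V, S⁆ := by
        intro s
        have := commutator_mem_commutator s.2 hw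
        rw [commutator_comm, commutatorElement_def] at this
        exact this
      have e2 : ((t : G) * w * (t : G)⁻¹) * ((s : G) * w * (s : G)⁻¹)⁻¹ =
          ((t : G) * w * (t : G)⁻¹ * w⁻¹) * ((s : G) * w * (s : G)⁻¹ * w⁻¹)⁻¹ := by group
      rw [e2]
      exact mul_mem (e1 t) (inv_mem (e1 s))
    have h5 : (d : G)⁻¹ * c = 1 := by
      have : (d : G)⁻¹ * c ∈ (V ⊓ centralizer (S : Set G)) ⊓ ⁅V, S⁆ :=
        ⟨Subgroup.mul_mem _ (Subgroup.inv_mem _ d.2) c.2, by rw [SetLike.mem_coe, h3]; exact h4⟩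
      rw [h1] at this
      exact mem_bot.1 this
    have h6 : c = d := Subtype.ext (inv_mul_eq_one.1 h5).symm
    subst h6
    have h7 : (s : G) * w * (s : G)⁻¹ = (t : G) * w * (t : G)⁻¹ := mul_left_cancel h2
    have h8 : (Quotient.mk _ s : S ⧸ T.subgroupOf S) = Quotient.mk _ t := by
      apply Quotient.sound
      refine QuotientGroup.leftRel_apply.2 ?_
      refine ⟨(s⁻¹ * t).2, ?_⟩
      have h10 : (s : G)⁻¹ * t * w = w * ((s : G)⁻¹ * t) → ((s⁻¹ * t : S) : G) ∈ centralizer ({w} : Set G) := by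
        intro h
        rw [mem_centralizer_singleton_iff]
        exact h
      refine h10 ?_
      have h9 : (s : G)⁻¹ * t * w = (s : G)⁻¹ * ((t : G) * w * (t : G)⁻¹) * t := by group
      rw [h9, ← h7]
      group
    rw [h8]
  have h2 : Nat.card (T.subgroupOf S) * (T.subgroupOf S).index = Nat.card S := card_mul_index _
  have h3 : Nat.card (T.subgroupOf S) = Nat.card T := Nat.card_congr (subgroupOfEquivOfLe hTS).toEquiv
  have h4 : Nat.card T ≤ Nat.card (S ⊓ centralizer (V : Set G) : Subgroup G) :=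
    card_le_of_le (le_inf hTS hTle)
  rw [← h2, h3]
  calc Nat.card T * (T.subgroupOf S).index * Nat.card (V ⊓ centralizer (S : Set G) : Subgroup G)
      = Nat.card T * (Nat.card (V ⊓ centralizer (S : Set G) : Subgroup G) * (T.subgroupOf S).index) := by ring
    _ ≤ Nat.card (S ⊓ centralizer (V : Set G) : Subgroup G) * Nat.card V := Nat.mul_le_mul h4 hinj
    _ = _ := mul_comm _ _
where
  CoprimeAb (A V : Subgroup G) (hV : ∀ x ∈ V, ∀ y ∈ V, x * y = y * x)
    (hAV : A ≤ Subgroup.normalizer (V : Set G)) (hcop : (Nat.card A).Coprime (Nat.card V)) :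
    (V ⊓ Subgroup.centralizer (A : Set G)) ⊓ ⁅V, A⁆ = ⊥ :=
    Cfsg.Agent.Lib.CoprimeAbelian.inf_commutator_eq_bot A V hV hAV hcop

end Cfsg.Agent.H157.Ab.Mix
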