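import Cfsg.Agent.H157.Ab.MixIrr

/-!
# Isotropic subgroups for coprime abelian groups of isometries, II: the general case (helper157)

`S` an abelian `p'`-group acting on the elementary abelian `p`-group `V`, preserving an alternating biadditive map: a
totally isotropic `Y ≤ V` with `|S / C_S(V)| ^ u ≤ |Y| ^ v`, if `(p ^ f + 1) ^ u ≤ p ^ (f v)` for all `f ≥ 1`.
-/

set_option autoImplicit false

namespace Cfsg.Agent.H157.Ab.MixForm

open Cfsg.Agent.H157.Ab.MixIrr

section

variable {S V W : Type*} [CommGroup S] [AddCommGroup V] [AddCommGroup W] [DistribMulAction S V]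

/-- the elements acting trivially on `U` -/
def Fx (S : Type*) [CommGroup S] [DistribMulAction S V] (U : AddSubgroup V) : Subgroup S where
  carrier := {s | ∀ x ∈ U, s • x = x}
  one_mem' := fun x _ => one_smul _ x
  mul_mem' := fun {a b} ha hb x hx => by rw [mul_smul, hb x hx, ha x hx]
  inv_mem' := fun {a} ha x hx => by rw [inv_smul_eq_iff, ha x hx]

theorem mem_Fx {U : AddSubgroup V} {s : S} : s ∈ Fx S U ↔ ∀ x ∈ U, s • x = x := Iff.rfl

theorem Fx_anti {U U' : AddSubgroup V} (h : U ≤ U') : Fx S U' ≤ Fx S U := fun _ hs x hx => hs x (h hx)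

variable [Finite S]

/-- the sum over a subgroup -/
noncomputable def EE (T : Subgroup S) : V →+ V :=
  letI := Fintype.ofFinite T
  { toFun := fun x => ∑ t : T, (t : S) • x
    map_zero' := by simp
    map_add' := fun x y => by rw [← Finset.sum_add_distrib]; simp only [smul_add] }

theorem EE_apply (T : Subgroup S) [Fintype T] (x : V) : EE T x = ∑ t : T, (t : S) • x := by
  have h : Fintype.ofFinite T = ‹Fintype T› := Subsingleton.elim _ _
  subst h
  rfl

theorem smul_EE (T : Subgroup S) {t : S} (ht : t ∈ T) (x : V) : t • EE T x = EE T x := by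
  classical
  have := Fintype.ofFinite T
  rw [EE_apply, Finset.smul_sum]
  refine Fintype.sum_equiv (Equiv.mulLeft (⟨t, ht⟩ : T)) _ _ fun s => ?_
  rw [smul_smul]
  rfl

theorem EE_comm (T : Subgroup S) (s : S) (x : V) : EE T (s • x) = s • EE T x := by
  have := Fintype.ofFinite T
  rw [EE_apply, EE_apply, Finset.smul_sum]
  apply Finset.sum_congr rfl
  intro t _
  rw [smul_smul, smul_smul, mul_comm]

theorem EE_fixed (T : Subgroup S) {x : V} (hx : ∀ t ∈ T, t • x = x) : EE T x = Nat.card T • x := by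
  have := Fintype.ofFinite T
  rw [EE_apply, Finset.sum_congr rfl (fun (t : T) _ => hx (t : S) t.2), Finset.sum_const, Finset.card_univ,
    Nat.card_eq_fintype_card]

theorem EE_mem (T : Subgroup S) {U : AddSubgroup V} (hU : ∀ (s : S) (x : V), x ∈ U → s • x ∈ U) {x : V}
    (hx : x ∈ U) : EE T x ∈ U := by
  have := Fintype.ofFinite T
  rw [EE_apply]
  exact AddSubgroup.sum_mem _ fun t _ => hU _ _ hx

variable {p : ℕ} [hpp : Fact p.Prime] (hp : ∀ x : V, p • x = 0) (hS : ¬ p ∣ Nat.card S)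

omit [DistribMulAction S V] [Finite S] in
include hp in
theorem eq_zero_of_nsmul {n : ℕ} (hn : ¬ p ∣ n) {x : V} (hx : n • x = 0) : x = 0 := by
  have h1 : addOrderOf x ∣ Nat.gcd n p :=
    Nat.dvd_gcd (addOrderOf_dvd_of_nsmul_eq_zero hx) (addOrderOf_dvd_of_nsmul_eq_zero (hp x))
  rw [((Nat.Prime.coprime_iff_not_dvd hpp.out).2 hn).symm, Nat.dvd_one, AddMonoid.addOrderOf_eq_one_iff] at h1
  exact h1

omit [DistribMulAction S V] [Finite S] in
include hp in
theorem exists_inv {n : ℕ} (hn : ¬ p ∣ n) : ∃ c : ℕ, ∀ x : V, c • (n • x) = x := by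
  obtain ⟨c, hc⟩ := Nat.exists_mul_mod_eq_one_of_coprime ((Nat.Prime.coprime_iff_not_dvd hpp.out).2 hn).symm
    hpp.out.one_lt
  refine ⟨c, fun x => ?_⟩
  rw [smul_smul, mul_comm]
  have h2 : n * c = 1 + p * ((n * c) / p) := by
    conv_lhs => rw [← Nat.mod_add_div (n * c) p]
    rw [hc.2]
  rw [h2, add_smul, one_smul, mul_comm p, mul_smul, hp, smul_zero, add_zero]

omit [Finite S] hpp in
theorem not_dvd_of_le (T : Subgroup S) (hS : ¬ p ∣ Nat.card S) : ¬ p ∣ Nat.card T :=
  fun h => hS (h.trans T.card_subgroup_dvd_card)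

/-- the fixed part and the kernel of the sum -/
def U1 (T : Subgroup S) (U : AddSubgroup V) : AddSubgroup V where
  carrier := {x | x ∈ U ∧ ∀ t ∈ T, t • x = x}
  zero_mem' := ⟨zero_mem _, fun t _ => smul_zero t⟩
  add_mem' := fun {a b} ha hb => ⟨add_mem ha.1 hb.1, fun t ht => by rw [smul_add, ha.2 t ht, hb.2 t ht]⟩
  neg_mem' := fun {a} ha => ⟨neg_mem ha.1, fun t ht => by rw [smul_neg, ha.2 t ht]⟩

noncomputable def U2 (T : Subgroup S) (U : AddSubgroup V) : AddSubgroup V where
  carrier := {x | x ∈ U ∧ EE T x = 0}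
  zero_mem' := ⟨zero_mem _, map_zero _⟩
  add_mem' := fun {a b} ha hb => ⟨add_mem ha.1 hb.1, by rw [map_add, ha.2, hb.2, add_zero]⟩
  neg_mem' := fun {a} ha => ⟨neg_mem ha.1, by rw [map_neg, ha.2, neg_zero]⟩

include hp hS in
theorem exists_decomp (T : Subgroup S) {U : AddSubgroup V} (hU : ∀ (s : S) (x : V), x ∈ U → s • x ∈ U) {x : V}
    (hx : x ∈ U) : ∃ y ∈ U1 T U, ∃ z ∈ U2 T U, x = y + z := by
  obtain ⟨c, hc⟩ := exists_inv hp (not_dvd_of_le T hS)
  refine ⟨c • EE T x, ⟨nsmul_mem (EE_mem T hU hx) c, fun t ht => ?_⟩, x - c • EE T x,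
    ⟨sub_mem hx (nsmul_mem (EE_mem T hU hx) c), ?_⟩, by abel⟩
  · rw [smul_comm, smul_EE T ht]
  · rw [map_sub, map_nsmul, EE_fixed T (x := EE T x) (fun t ht => smul_EE T ht x), hc, sub_self]

include hp hS in
theorem U1_inf_U2 (T : Subgroup S) {U : AddSubgroup V} {x : V} (h1 : x ∈ U1 T U) (h2 : x ∈ U2 T U) : x = 0 := by
  have h3 := EE_fixed T h1.2
  rw [h2.2] at h3
  exact eq_zero_of_nsmul hp (not_dvd_of_le T hS) h3.symm

omit [Finite S] in
theorem U1_inv (T : Subgroup S) {U : AddSubgroup V} (hU : ∀ (s : S) (x : V), x ∈ U → s • x ∈ U) (s : S) (x : V)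
    (hx : x ∈ U1 T U) : s • x ∈ U1 T U :=
  ⟨hU s x hx.1, fun t ht => by rw [smul_smul, mul_comm, mul_smul, hx.2 t ht]⟩

theorem U2_inv (T : Subgroup S) {U : AddSubgroup V} (hU : ∀ (s : S) (x : V), x ∈ U → s • x ∈ U) (s : S) (x : V)
    (hx : x ∈ U2 T U) : s • x ∈ U2 T U :=
  ⟨hU s x hx.1, by rw [EE_comm, hx.2, smul_zero]⟩

variable (β : V →+ V →+ W) (alt : ∀ x, β x x = 0) (inv : ∀ (s : S) (x y : V), β (s • x) (s • y) = β x y)

include hp hS inv in
theorem orth (T : Subgroup S) {U : AddSubgroup V} {x y : V} (h1 : x ∈ U1 T U) (h2 : y ∈ U2 T U) : β x y = 0 := by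
  classical
  have := Fintype.ofFinite T
  have h3 : Nat.card T • β x y = 0 := by
    have h4 : β x (EE T y) = 0 := by rw [h2.2, map_zero]
    rw [EE_apply, map_sum] at h4
    rw [← h4, Nat.card_eq_fintype_card, ← Finset.card_univ, ← Finset.sum_const]
    apply Finset.sum_congr rfl
    intro t _
    rw [← inv (t : S) x y, h1.2 t t.2]
  have h4 : p • β x y = 0 := by
    rw [← map_nsmul, hp, map_zero]
  have h1 : addOrderOf (β x y) ∣ Nat.gcd (Nat.card T) p :=
    Nat.dvd_gcd (addOrderOf_dvd_of_nsmul_eq_zero h3) (addOrderOf_dvd_of_nsmul_eq_zero h4)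
  rw [((Nat.Prime.coprime_iff_not_dvd hpp.out).2 (not_dvd_of_le T hS)).symm, Nat.dvd_one,
    AddMonoid.addOrderOf_eq_one_iff] at h1
  exact h1

variable [Finite V]

include hp hS alt inv in
theorem main_aux {u v : ℕ} (huv : u ≤ v) (huv' : ∀ f, 1 ≤ f → (p ^ f + 1) ^ u ≤ p ^ (f * v)) (n : ℕ) :
    ∀ U : AddSubgroup V, Nat.card U = n → (∀ (s : S) (x : V), x ∈ U → s • x ∈ U) →
      ∃ Y : AddSubgroup V, Y ≤ U ∧ (∀ x ∈ Y, ∀ y ∈ Y, β x y = 0) ∧ (Fx S U).index ^ u ≤ Nat.card Y ^ v := by
  classical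
  induction n using Nat.strong_induction_on with
  | _ n ih =>
  intro U hn hU
  by_cases htop : Fx S U = ⊤
  · refine ⟨⊥, bot_le, fun x hx y _ => ?_, ?_⟩
    · rw [AddSubgroup.mem_bot.1 hx, map_zero, AddMonoidHom.zero_apply]
    · rw [htop, Subgroup.index_top, one_pow]
      exact Nat.one_le_pow _ _ Nat.card_pos
  -- a minimal submodule
  obtain ⟨M, ⟨hMU, hMinv, hMtop⟩, hMmin⟩ : ∃ M : AddSubgroup V, (M ≤ U ∧ (∀ (s : S) (x : V), x ∈ M → s • x ∈ M) ∧
      Fx S M ≠ ⊤) ∧ ∀ M' : AddSubgroup V, (M' ≤ U ∧ (∀ (s : S) (x : V), x ∈ M' → s • x ∈ M') ∧ Fx S M' ≠ ⊤) →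
      Nat.card M ≤ Nat.card M' := by
    have hfs : Finite (AddSubgroup V) := inferInstance
    obtain ⟨M, hM, hMm⟩ := Set.exists_min_image
      {M : AddSubgroup V | M ≤ U ∧ (∀ (s : S) (x : V), x ∈ M → s • x ∈ M) ∧ Fx S M ≠ ⊤}
      (fun M => Nat.card M) (Set.toFinite _) ⟨U, le_rfl, hU, htop⟩
    exact ⟨M, hM, hMm⟩
  -- irreducible
  have hUM2 : U2 (⊤ : Subgroup S) M = M := by
    have h1 : U2 (⊤ : Subgroup S) M ≤ M := fun x hx => hx.1
    by_contra hne
    have h2 : Fx S (U2 (⊤ : Subgroup S) M) = ⊤ := by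
      by_contra h3
      have h4 := hMmin (U2 (⊤ : Subgroup S) M) ⟨h1.trans hMU, U2_inv _ hMinv, h3⟩
      exact hne (AddSubgroup.eq_of_le_of_card_ge h1 h4)
    apply hMtop
    rw [eq_top_iff]
    intro s _ x hx
    obtain ⟨y, hy, z, hz, rfl⟩ := exists_decomp hp hS ⊤ hMinv hx
    have h5 : s ∈ Fx S (U2 (⊤ : Subgroup S) M) := by rw [h2]; trivial
    rw [smul_add, hy.2 s trivial, h5 z hz]
  have hirr : ∀ N : AddSubgroup V, N ≤ M → (∀ (s : S) (x : V), x ∈ N → s • x ∈ N) → N = ⊥ ∨ N = M := by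
    intro N hNM hN
    by_cases h1 : Fx S N = ⊤
    · left
      rw [eq_bot_iff]
      intro x hx
      rw [AddSubgroup.mem_bot]
      refine U1_inf_U2 hp hS (⊤ : Subgroup S) (U := M) ⟨hNM hx, fun t _ => ?_⟩ (by rw [hUM2]; exact hNM hx)
      have h2 : t ∈ Fx S N := by rw [h1]; trivial
      exact h2 x hx
    · right
      exact AddSubgroup.eq_of_le_of_card_ge hNM (hMmin N ⟨hNM.trans hMU, hN, h1⟩)
  have hM0 : ∃ m ∈ M, m ≠ 0 := by
    by_contra hcon
    push Not at hcon
    apply hMtop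
    rw [eq_top_iff]
    intro s _ x hx
    rw [hcon x hx, smul_zero]
  set T := Fx S M with hT
  -- isotropic part of `M`
  obtain ⟨Y1, hY1M, hY1, hY1c⟩ : ∃ Y : AddSubgroup V, Y ≤ M ∧ (∀ x ∈ Y, ∀ y ∈ Y, β x y = 0) ∧
      T.index ^ u ≤ Nat.card Y ^ v := by
    by_cases hiso : ∀ x ∈ M, ∀ y ∈ M, β x y = 0
    · refine ⟨M, le_rfl, hiso, ?_⟩
      obtain ⟨m, hm, hm0⟩ := hM0
      -- the stabiliser of `m`
      have h1 : MulAction.stabilizer S m = T := by
        apply le_antisymm
        · intro s hs x hx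
          have hN : {x | x ∈ M ∧ s • x = x} = ((U1 (Subgroup.zpowers s) M : AddSubgroup V) : Set V) := by
            ext z
            constructor
            · rintro ⟨h1, h2⟩
              refine ⟨h1, fun t ht => ?_⟩
              have h3 : Subgroup.zpowers s ≤ MulAction.stabilizer S z := by
                rw [Subgroup.zpowers_le]
                exact h2
              exact h3 ht
            · rintro ⟨h1, h2⟩
              exact ⟨h1, h2 s (Subgroup.mem_zpowers s)⟩
          rcases hirr (U1 (Subgroup.zpowers s) M) (fun z hz => hz.1) (U1_inv _ hMinv) with h | h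
          · exfalso
            have h2 : m ∈ U1 (Subgroup.zpowers s) M := by
              have : m ∈ {x | x ∈ M ∧ s • x = x} := ⟨hm, hs⟩
              rw [hN] at this
              exact this
            rw [h] at h2
            exact hm0 (AddSubgroup.mem_bot.1 h2)
          · have h2 : x ∈ U1 (Subgroup.zpowers s) M := by rw [h]; exact hx
            exact h2.2 s (Subgroup.mem_zpowers s)
        · intro s hs
          exact hs m hm
      have h2 : T.index ≤ Nat.card M := by
        rw [← h1, MulAction.index_stabilizer]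
        have h3 : MulAction.orbit S m ⊆ (M : Set V) := by
          rintro _ ⟨s, rfl⟩
          exact hMinv s m hm
        exact Set.ncard_le_ncard h3 (Set.toFinite _) 
      calc T.index ^ u ≤ Nat.card M ^ u := Nat.pow_le_pow_left h2 u
        _ ≤ Nat.card M ^ v := Nat.pow_le_pow_right Nat.card_pos huv
    · push Not at hiso
      obtain ⟨a, ha, b, hb, hab⟩ := hiso
      letI : DistribMulAction S M :=
        { smul := fun s x => ⟨s • x.1, hMinv s x.1 x.2⟩
          one_smul := fun x => Subtype.ext (one_smul S x.1)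
          mul_smul := fun s t x => Subtype.ext (mul_smul s t x.1)
          smul_zero := fun s => Subtype.ext (smul_zero s)
          smul_add := fun s x y => Subtype.ext (smul_add s x.1 y.1) }
      have hsm : ∀ (s : S) (x : M), ((s • x : M) : V) = s • (x : V) := fun s x => rfl
      obtain ⟨Y, f, hf, hYf, hYi, hYc⟩ := MixIrr.exists_iso (S := S) (V := M) (W := W) (p := p) (fun N hN => by
        rcases hirr (N.map M.subtype) (by
          rintro _ ⟨x, -, rfl⟩
          exact x.2) (by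
          rintro s _ ⟨x, hx, rfl⟩
          exact ⟨s • x, hN s x hx, rfl⟩) with h | h
        · left
          rw [eq_bot_iff]
          intro x hx
          have h1 : (x : V) ∈ N.map M.subtype := ⟨x, hx, rfl⟩
          rw [h] at h1
          rw [AddSubgroup.mem_bot]
          exact Subtype.ext (AddSubgroup.mem_bot.1 h1)
        · right
          rw [eq_top_iff]
          intro x _
          have h1 : (x : V) ∈ N.map M.subtype := by rw [h]; exact x.2
          obtain ⟨y, hy, hyx⟩ := h1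
          have : y = x := Subtype.ext hyx
          rw [← this]
          exact hy) ((β.comp M.subtype).compl₂ M.subtype) (fun x => alt x.1)
        (fun s x y => inv s x.1 y.1) ⟨⟨a, ha⟩, ⟨b, hb⟩, hab⟩ (fun x => Subtype.ext (hp x.1))
      refine ⟨Y.map M.subtype, ?_, ?_, ?_⟩
      · rintro _ ⟨x, -, rfl⟩
        exact x.2
      · rintro _ ⟨x, hx, rfl⟩ _ ⟨y, hy, rfl⟩
        exact hYi x hx y hy
      · have h1 : Nat.card (Y.map M.subtype) = Nat.card Y :=
          Nat.card_congr (AddSubgroup.equivMapOfInjective Y M.subtype Subtype.val_injective).symm.toEquiv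
        have h2 : T.index ≤ Nat.card (Set.range (fun s : S => (en s : AddMonoid.End M))) := by
          rw [Subgroup.index]
          let F : (S ⧸ T) → Set.range (fun s : S => (en s : AddMonoid.End M)) :=
            Quotient.lift (fun s => (⟨en s, ⟨s, rfl⟩⟩ : Set.range (fun s : S => (en s : AddMonoid.End M))))
              (by
                intro s t hst
                have h3 : s⁻¹ * t ∈ T := QuotientGroup.leftRel_apply.1 hst
                apply Subtype.ext
                ext x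
                show s • (x : V) = t • (x : V)
                have h4 := h3 x x.2
                rw [mul_smul, inv_smul_eq_iff] at h4
                exact h4.symm)
          refine Nat.card_le_card_of_injective F ?_
          intro q r
          refine Quotient.inductionOn₂ q r fun s t h => ?_
          have h3 : (en s : AddMonoid.End M) = en t := congrArg Subtype.val h
          apply Quotient.sound
          refine QuotientGroup.leftRel_apply.2 ?_
          intro x hx
          rw [mul_smul, inv_smul_eq_iff]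
          have h4 := DFunLike.congr_fun h3 ⟨x, hx⟩
          exact (congrArg Subtype.val h4).symm
        rw [h1, hYf, ← pow_mul]
        exact (Nat.pow_le_pow_left (h2.trans hYc) u).trans (huv' f hf)
  -- the rest
  have hU2lt : Nat.card (U2 T U) < n := by
    rw [← hn]
    by_contra hge
    push Not at hge
    have h1 : U2 T U = U := AddSubgroup.eq_of_le_of_card_ge (fun x hx => hx.1) hge
    obtain ⟨m, hm, hm0⟩ := hM0
    apply hm0
    exact U1_inf_U2 hp hS T (U := U) ⟨hMU hm, fun t ht => ht m hm⟩ (by rw [h1]; exact hMU hm)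
  obtain ⟨Y2, hY2U, hY2, hY2c⟩ := ih _ hU2lt (U2 T U) rfl (U2_inv T hU)
  have hY1U : Y1 ≤ U1 T U := fun x hx => ⟨hMU (hY1M hx), fun t ht => ht x (hY1M hx)⟩
  refine ⟨Y1 ⊔ Y2, sup_le (hY1M.trans hMU) (hY2U.trans fun x hx => hx.1), ?_, ?_⟩
  · intro x hx y hy
    obtain ⟨x1, hx1, x2, hx2, rfl⟩ := AddSubgroup.mem_sup.1 hx
    obtain ⟨y1, hy1, y2, hy2, rfl⟩ := AddSubgroup.mem_sup.1 hy
    have e1 := orth hp hS β inv T (hY1U hx1) (hY2U hy2)
    have e2 : β x2 y1 = 0 := by
      rw [MixIrr.skew β alt, orth hp hS β inv T (hY1U hy1) (hY2U hx2), neg_zero]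
    simp only [map_add, AddMonoidHom.add_apply, hY1 _ hx1 _ hy1, hY2 _ hx2 _ hy2, e1, e2, add_zero]
  · have h1 : Nat.card Y1 * Nat.card Y2 ≤ Nat.card (Y1 ⊔ Y2 : AddSubgroup V) := by
      rw [← Nat.card_prod]
      refine Nat.card_le_card_of_injective (fun q : Y1 × Y2 =>
        (⟨q.1.1 + q.2.1, AddSubgroup.add_mem_sup q.1.2 q.2.2⟩ : (Y1 ⊔ Y2 : AddSubgroup V))) ?_
      rintro ⟨a, b⟩ ⟨c, d⟩ h
      have h2 : (a : V) + b = c + d := congrArg Subtype.val h
      have h3 : (a : V) - c = d - b := by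
        rw [sub_eq_sub_iff_add_eq_add, h2, add_comm]
      have h4 : (a : V) - c = 0 := U1_inf_U2 hp hS T (U := U) (sub_mem (hY1U a.2) (hY1U c.2))
        (by rw [h3]; exact sub_mem (hY2U d.2) (hY2U b.2))
      have h5 : (d : V) - b = 0 := by rw [← h3, h4]
      exact Prod.ext (Subtype.ext (sub_eq_zero.1 h4)) (Subtype.ext (sub_eq_zero.1 h5).symm)
    have h2 : T ⊓ Fx S (U2 T U) ≤ Fx S U := by
      rintro s ⟨hs1, hs2⟩ x hx
      obtain ⟨y, hy, z, hz, rfl⟩ := exists_decomp hp hS T hU hx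
      rw [smul_add, hy.2 s hs1, hs2 z hz]
    have h3 : (Fx S U).index ≤ T.index * (Fx S (U2 T U)).index :=
      (Nat.le_of_dvd (Nat.pos_of_ne_zero Subgroup.index_ne_zero_of_finite) (Subgroup.index_dvd_of_le h2)).trans
        (Subgroup.index_inf_le)
    calc (Fx S U).index ^ u ≤ (T.index * (Fx S (U2 T U)).index) ^ u := Nat.pow_le_pow_left h3 u
      _ = T.index ^ u * (Fx S (U2 T U)).index ^ u := mul_pow _ _ _
      _ ≤ Nat.card Y1 ^ v * Nat.card Y2 ^ v := Nat.mul_le_mul hY1c hY2c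
      _ = (Nat.card Y1 * Nat.card Y2) ^ v := (mul_pow _ _ _).symm
      _ ≤ _ := Nat.pow_le_pow_left h1 v

include hp hS alt inv in
/-- **Isotropic subgroups.** -/
theorem exists_isotropic {u v : ℕ} (huv : u ≤ v) (huv' : ∀ f, 1 ≤ f → (p ^ f + 1) ^ u ≤ p ^ (f * v)) :
    ∃ Y : AddSubgroup V, (∀ x ∈ Y, ∀ y ∈ Y, β x y = 0) ∧ (Fx S (⊤ : AddSubgroup V)).index ^ u ≤ Nat.card Y ^ v := by
  obtain ⟨Y, -, h1, h2⟩ := main_aux hp hS β alt inv huv huv' _ (⊤ : AddSubgroup V) rfl (fun _ _ _ => trivial)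
  exact ⟨Y, h1, h2⟩

end

end Cfsg.Agent.H157.Ab.MixForm
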