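import Mathlib

/-!
# Isotropic subgroups for coprime abelian groups of isometries, I: irreducible modules (helper157)

`S` an abelian group acting irreducibly and non-trivially on the elementary abelian `p`-group `V`, preserving a nonzero
alternating biadditive map `β : V → V → W`: there is a totally isotropic `Y` with `|S / C_S(V)| ≤ |Y| + 1`, `1 < |Y|`.
-/

set_option autoImplicit false

namespace Cfsg.Agent.H157.Ab.MixIrr

variable {S V W : Type*} [CommGroup S] [AddCommGroup V] [AddCommGroup W] [DistribMulAction S V]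

/-- the action of an element -/
def en (s : S) : AddMonoid.End V := DistribMulAction.toAddMonoidEnd S V s

theorem en_apply (s : S) (x : V) : en s x = s • x := rfl

theorem en_mul (s t : S) : (en (s * t) : AddMonoid.End V) = en s * en t := by
  ext x; simp [en_apply, mul_smul]

theorem en_one : (en (1 : S) : AddMonoid.End V) = 1 := by
  ext x; simp [en_apply]

/-- the ring generated by `S` -/
def KK (S V : Type*) [CommGroup S] [AddCommGroup V] [DistribMulAction S V] : Subring (AddMonoid.End V) :=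
  Subring.closure (Set.range (fun s : S => (en s : AddMonoid.End V)))

theorem en_mem (s : S) : (en s : AddMonoid.End V) ∈ KK S V := Subring.subset_closure ⟨s, rfl⟩

theorem en_comm (s t : S) : (en s * en t : AddMonoid.End V) = en t * en s := by
  rw [← en_mul, ← en_mul, mul_comm]

theorem comm_en {k : AddMonoid.End V} (hk : k ∈ KK S V) (s : S) : k * en s = en s * k := by
  induction hk using Subring.closure_induction with
  | mem x hx => obtain ⟨t, rfl⟩ := hx; exact en_comm t s
  | zero => simp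
  | one => simp
  | add x y _ _ hx hy => rw [add_mul, mul_add, hx, hy]
  | neg x _ hx => rw [neg_mul, mul_neg, hx]
  | mul x y _ _ hx hy => rw [mul_assoc, hy, ← mul_assoc, hx, mul_assoc]

theorem comm_K {k l : AddMonoid.End V} (hk : k ∈ KK S V) (hl : l ∈ KK S V) : k * l = l * k := by
  induction hl using Subring.closure_induction with
  | mem x hx => obtain ⟨t, rfl⟩ := hx; exact comm_en hk t
  | zero => simp
  | one => simp
  | add x y _ _ hx hy => rw [add_mul, mul_add, hx, hy]
  | neg x _ hx => rw [neg_mul, mul_neg, hx]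
  | mul x y _ _ hx hy => rw [← mul_assoc, hx, mul_assoc, hy, mul_assoc]

variable (hirr : ∀ U : AddSubgroup V, (∀ (s : S) (x : V), x ∈ U → s • x ∈ U) → U = ⊥ ∨ U = ⊤)

include hirr

theorem K_inj {k : AddMonoid.End V} (hk : k ∈ KK S V) (hk0 : k ≠ 0) {x : V} (hx : k x = 0) : x = 0 := by
  rcases hirr (AddMonoidHom.ker (k : V →+ V)) (fun s y hy => by
    show k (s • y) = 0
    have h1 := DFunLike.congr_fun (comm_en (S := S) hk s) y
    have h2 : k (s • y) = s • k y := h1
    have h3 : k y = 0 := hy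
    rw [h2, h3, smul_zero]) with h | h
  · have : x ∈ AddMonoidHom.ker (k : V →+ V) := hx
    rw [h] at this
    exact (AddSubgroup.mem_bot).1 this
  · exfalso
    apply hk0
    ext y
    have : y ∈ AddMonoidHom.ker (k : V →+ V) := by rw [h]; trivial
    exact this

theorem K_eq_zero_or {k l : AddMonoid.End V} (hk : k ∈ KK S V) (h : k * l = 0) : k = 0 ∨ l = 0 := by
  by_cases hk0 : k = 0
  · exact Or.inl hk0
  · refine Or.inr ?_
    ext x
    exact K_inj hirr hk hk0 (DFunLike.congr_fun h x)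

variable (β : V →+ V →+ W) (alt : ∀ x, β x x = 0) (inv : ∀ (s : S) (x y : V), β (s • x) (s • y) = β x y)

omit hirr [DistribMulAction S V] in
include alt in
theorem skew (x y : V) : β x y = - β y x := by
  have h := alt (x + y)
  simp only [map_add, AddMonoidHom.add_apply, alt, zero_add, add_zero] at h
  exact eq_neg_of_add_eq_zero_left (by rw [← h]; abel)

/-- the adjoint relation -/
def Adj (β : V →+ V →+ W) (k l : AddMonoid.End V) : Prop := ∀ x y, β (k x) y = β x (l y)

omit hirr in
include inv in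
theorem exists_adj {k : AddMonoid.End V} (hk : k ∈ KK S V) : ∃ l ∈ KK S V, Adj β k l ∧ Adj β l k := by
  induction hk using Subring.closure_induction with
  | mem x hx =>
    obtain ⟨s, rfl⟩ := hx
    refine ⟨en s⁻¹, en_mem _, fun x y => ?_, fun x y => ?_⟩
    · have := inv s x (s⁻¹ • y)
      rw [smul_inv_smul] at this
      exact this
    · have := inv s (s⁻¹ • x) y
      rw [smul_inv_smul] at this
      exact this.symm
  | zero => exact ⟨0, zero_mem _, fun x y => by simp, fun x y => by simp⟩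
  | one => exact ⟨1, one_mem _, fun x y => rfl, fun x y => rfl⟩
  | add x y _ _ hx hy =>
    obtain ⟨l, hl, h1, h2⟩ := hx
    obtain ⟨m, hm, h3, h4⟩ := hy
    refine ⟨l + m, add_mem hl hm, fun a b => ?_, fun a b => ?_⟩
    · show β (x a + y a) b = β a (l b + m b)
      rw [map_add, AddMonoidHom.add_apply, map_add, h1, h3]
    · show β (l a + m a) b = β a (x b + y b)
      rw [map_add, AddMonoidHom.add_apply, map_add, h2, h4]
  | neg x _ hx =>
    obtain ⟨l, hl, h1, h2⟩ := hx
    refine ⟨-l, neg_mem hl, fun a b => ?_, fun a b => ?_⟩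
    · show β (-(x a)) b = β a (-(l b))
      rw [map_neg, AddMonoidHom.neg_apply, map_neg, h1]
    · show β (-(l a)) b = β a (-(x b))
      rw [map_neg, AddMonoidHom.neg_apply, map_neg, h2]
  | mul x y hx' hy' hx hy =>
    obtain ⟨l, hl, h1, h2⟩ := hx
    obtain ⟨m, hm, h3, h4⟩ := hy
    refine ⟨l * m, mul_mem hl hm, fun a b => ?_, fun a b => ?_⟩
    · rw [comm_K hl hm]
      show β (x (y a)) b = β a (m (l b))
      rw [h1, h3]
    · have hc : x * y = y * x := comm_K (S := S) hx' hy'
      rw [hc]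
      show β (l (m a)) b = β a (y (x b))
      rw [h2, h4]

variable (hβ : ∃ x y, β x y ≠ 0)

include inv hβ in
theorem nondeg {y : V} (hy : ∀ x, β x y = 0) : y = 0 := by
  let R : AddSubgroup V :=
    { carrier := {y | ∀ x, β x y = 0}
      zero_mem' := fun x => map_zero _
      add_mem' := fun {a b} ha hb x => by rw [map_add, ha x, hb x, add_zero]
      neg_mem' := fun {a} ha x => by rw [map_neg, ha x, neg_zero] }
  rcases hirr R (fun s z hz x => by
    have := inv s (s⁻¹ • x) z
    rw [smul_inv_smul] at this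
    rw [this]
    exact hz _) with h | h
  · have h1 : y ∈ R := hy
    rw [h] at h1
    exact AddSubgroup.mem_bot.1 h1
  · exfalso
    obtain ⟨a, b, hab⟩ := hβ
    apply hab
    have h1 : b ∈ R := by rw [h]; trivial
    exact h1 a

include inv hβ in
theorem adj_unique {k l l' : AddMonoid.End V} (h1 : Adj β k l) (h2 : Adj β k l') : l = l' := by
  ext y
  have : l y - l' y = 0 := by
    apply nondeg hirr β inv hβ
    intro x
    rw [map_sub, ← h1, ← h2, sub_self]
  exact sub_eq_zero.1 this

/-- the self-adjoint elements of `K` -/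
def K0 (S : Type*) [CommGroup S] [DistribMulAction S V] (β : V →+ V →+ W) : AddSubgroup (AddMonoid.End V) where
  carrier := {k | k ∈ KK S V ∧ Adj β k k}
  zero_mem' := ⟨zero_mem _, fun x y => by simp⟩
  add_mem' := by
    rintro a b ⟨ha, ha'⟩ ⟨hb, hb'⟩
    refine ⟨add_mem ha hb, fun x y => ?_⟩
    show β (a x + b x) y = β x (a y + b y)
    rw [map_add, AddMonoidHom.add_apply, map_add, ha', hb']
  neg_mem' := by
    rintro a ⟨ha, ha'⟩
    refine ⟨neg_mem ha, fun x y => ?_⟩
    show β (-(a x)) y = β x (-(a y))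
    rw [map_neg, AddMonoidHom.neg_apply, map_neg, ha']

omit hirr in
theorem K0_mul {a b : AddMonoid.End V} (ha : a ∈ K0 S β) (hb : b ∈ K0 S β) : a * b ∈ K0 S β := by
  refine ⟨mul_mem ha.1 hb.1, fun x y => ?_⟩
  rw [comm_K ha.1 hb.1]
  show β (b (a x)) y = β x (b (a y))
  rw [hb.2, ha.2, ← hb.2]
  have h1 : a (b y) = b (a y) := DFunLike.congr_fun (comm_K ha.1 hb.1) y
  rw [hb.2, ← h1]

variable [Finite V] {p : ℕ} [hpp : Fact p.Prime] (hp : ∀ x : V, p • x = 0)

include alt hp in
/-- self-adjoint elements: `β (x, c x) = 0` -/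
theorem self_iso {c : AddMonoid.End V} (hc : c ∈ K0 S β) (x : V) : β x (c x) = 0 := by
  have hfin : Finite (AddMonoid.End V) := Finite.of_injective (fun f : AddMonoid.End V => (f : V → V)) DFunLike.coe_injective
  have hW : ∀ x y, p • β x y = 0 := by
    intro x y
    rw [← map_nsmul, hp, map_zero]
  have h2 : (2 : ℕ) • β x (c x) = 0 := by
    have h1 : β x (c x) = - β x (c x) := by
      conv_lhs => rw [← hc.2, skew β alt]
    rw [two_nsmul]
    nth_rewrite 1 [h1]
    exact neg_add_cancel (β x (c x))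
  by_cases hp2 : p = 2
  · -- squares
    subst hp2
    have hinj : Function.Injective (fun b : K0 S β => (⟨b.1 * b.1, K0_mul β b.2 b.2⟩ : K0 S β)) := by
      rintro ⟨a, ha⟩ ⟨b, hb⟩ h
      have h1 : a * a = b * b := congrArg Subtype.val h
      apply Subtype.ext
      show a = b
      have hab := comm_K ha.1 hb.1
      have h3 : (a - b) * (a - b) = 0 := by
        rw [sub_mul, mul_sub, mul_sub, ← hab, h1]
        have h4 : (2 : ℕ) • (b * b - a * b) = 0 := by
          ext y
          show (2 : ℕ) • ((b * b - a * b) y) = 0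
          exact hp _
        rw [two_nsmul] at h4
        rw [← h4]
        abel
      rcases K_eq_zero_or hirr (sub_mem ha.1 hb.1) h3 with h | h <;> exact sub_eq_zero.1 h
    have hsurj := Finite.surjective_of_injective hinj
    obtain ⟨b, hb⟩ := hsurj ⟨c, hc⟩
    have hb' : b.1 * b.1 = c := congrArg Subtype.val hb
    rw [← hb']
    show β x (b.1 (b.1 x)) = 0
    rw [← b.2.2]
    exact alt _
  · have hcop : Nat.Coprime 2 p := (Nat.coprime_primes Nat.prime_two hpp.out).2 (Ne.symm hp2)
    have h3 : addOrderOf (β x (c x)) ∣ Nat.gcd 2 p :=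
      Nat.dvd_gcd (addOrderOf_dvd_of_nsmul_eq_zero h2) (addOrderOf_dvd_of_nsmul_eq_zero (hW _ _))
    rw [hcop, Nat.dvd_one, AddMonoid.addOrderOf_eq_one_iff] at h3
    exact h3

include alt inv hβ hp in
/-- **The irreducible case.** -/
theorem exists_iso : ∃ (Y : AddSubgroup V) (f : ℕ), 1 ≤ f ∧ Nat.card Y = p ^ f ∧ (∀ x ∈ Y, ∀ y ∈ Y, β x y = 0) ∧
    Nat.card (Set.range (fun s : S => (en s : AddMonoid.End V))) ≤ p ^ f + 1 := by
  classical
  have hfin : Finite (AddMonoid.End V) := Finite.of_injective (fun f : AddMonoid.End V => (f : V → V)) DFunLike.coe_injective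
  -- the vector
  obtain ⟨m, m', hmm⟩ := hβ
  have hβ : ∃ x y, β x y ≠ 0 := ⟨m, m', hmm⟩
  have hm0 : m ≠ 0 := by
    rintro rfl
    apply hmm
    simp
  have hnt : Nontrivial V := ⟨m, 0, hm0⟩
  let evm : AddMonoid.End V →+ V := { toFun := fun k => k m, map_zero' := rfl, map_add' := fun _ _ => rfl }
  have hinj : ∀ k ∈ KK S V, k m = 0 → k = 0 := by
    intro k hk h
    by_contra h0
    exact hm0 (K_inj hirr hk h0 h)
  have hone : (1 : AddMonoid.End V) ∈ K0 S β := ⟨one_mem _, fun x y => rfl⟩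
  have hne : (1 : AddMonoid.End V) ≠ 0 := by
    intro h
    exact hm0 (DFunLike.congr_fun h m)
  -- not everything is self-adjoint
  obtain ⟨a, haK, ha0⟩ : ∃ a ∈ KK S V, a ∉ K0 S β := by
    by_contra hcon
    push Not at hcon
    have htop : (KK S V).toAddSubgroup.map evm = ⊤ := by
      rcases hirr ((KK S V).toAddSubgroup.map evm) (by
        rintro s _ ⟨k, hk, rfl⟩
        have hk' : k ∈ KK S V := hk
        have hm' : en s * k ∈ KK S V := mul_mem (en_mem s) hk'
        exact ⟨en s * k, hm', rfl⟩) with h | h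
      · exfalso
        have h1 : m ∈ (KK S V).toAddSubgroup.map evm := ⟨1, one_mem (KK S V), rfl⟩
        rw [h] at h1
        exact hm0 (AddSubgroup.mem_bot.1 h1)
      · exact h
    obtain ⟨k, hk, hkm⟩ : m' ∈ (KK S V).toAddSubgroup.map evm := by rw [htop]; trivial
    apply hmm
    have h1 : k m = m' := hkm
    rw [← h1]
    exact self_iso hirr β alt hp (hcon k hk) m
  -- the adjoint
  have hadj : ∀ k : KK S V, ∃ l : KK S V, Adj β k.1 l.1 ∧ Adj β l.1 k.1 := by
    rintro ⟨k, hk⟩
    obtain ⟨l, hl, h1, h2⟩ := exists_adj β inv hk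
    exact ⟨⟨l, hl⟩, h1, h2⟩
  choose τ hτ hτ' using hadj
  have huniq : ∀ {k l l' : AddMonoid.End V}, Adj β k l → Adj β k l' → l = l' :=
    fun h1 h2 => adj_unique hirr β inv hβ h1 h2
  have τadd : ∀ k l, τ (k + l) = τ k + τ l := by
    intro k l
    apply Subtype.ext
    refine huniq (hτ _) fun x y => ?_
    show β (k.1 x + l.1 x) y = β x ((τ k).1 y + (τ l).1 y)
    rw [map_add, AddMonoidHom.add_apply, map_add, hτ k, hτ l]
  have τmul : ∀ k l, τ (k * l) = τ k * τ l := by
    intro k l
    apply Subtype.ext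
    refine huniq (hτ _) fun x y => ?_
    have h1 : (τ k).1 ((τ l).1 y) = (τ l).1 ((τ k).1 y) := DFunLike.congr_fun (comm_K (τ k).2 (τ l).2) y
    show β (k.1 (l.1 x)) y = β x ((τ k).1 ((τ l).1 y))
    rw [hτ k, hτ l, h1]
  have ττ : ∀ k, τ (τ k) = k := by
    intro k
    apply Subtype.ext
    exact huniq (hτ (τ k)) (hτ' k)
  have τ0 : ∀ k : KK S V, k.1 ∈ K0 S β ↔ τ k = k := by
    intro k
    constructor
    · intro h
      exact Subtype.ext (huniq (hτ k) h.2)
    · intro h
      refine ⟨k.2, ?_⟩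
      have := hτ k
      rw [h] at this
      exact this
  have hdom : ∀ k l : KK S V, k * l = 0 → k = 0 ∨ l = 0 := by
    intro k l h
    rcases K_eq_zero_or hirr k.2 (congrArg Subtype.val h) with h | h
    · exact Or.inl (Subtype.ext h)
    · exact Or.inr (Subtype.ext h)
  have hcomm : ∀ k l : KK S V, k * l = l * k := fun k l => Subtype.ext (comm_K k.2 l.2)
  have τsub : ∀ k l, τ (k - l) = τ k - τ l := by
    intro k l
    have := τadd (k - l) l
    rw [sub_add_cancel] at this
    rw [this, add_sub_cancel_right]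
  have τz : τ 0 = 0 := by
    have := τadd 0 0
    rw [add_zero] at this
    exact left_eq_add.1 this
  -- cardinality of `K`
  have hK0fin : Finite (K0 S β) := inferInstance
  set a' : KK S V := ⟨a, haK⟩ with ha'
  have hane : τ a' ≠ a' := fun h => ha0 ((τ0 a').2 h)
  have hK : Nat.card (KK S V) ≤ Nat.card (K0 S β) * Nat.card (K0 S β) := by
    rw [← Nat.card_prod]
    have hm1 : ∀ z : KK S V, (z + τ z).1 ∈ K0 S β := by
      intro z
      rw [τ0, τadd, ττ, add_comm]
    refine Nat.card_le_card_of_injective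
      (fun z : KK S V => ((⟨(z + τ z).1, hm1 z⟩ : K0 S β), (⟨(a' * z + τ (a' * z)).1, hm1 _⟩ : K0 S β))) ?_
    intro z w h
    have h1 : z + τ z = w + τ w := Subtype.ext (congrArg (fun q : K0 S β × K0 S β => q.1.1) h)
    have h2 : a' * z + τ (a' * z) = a' * w + τ (a' * w) :=
      Subtype.ext (congrArg (fun q : K0 S β × K0 S β => q.2.1) h)
    set u := z - w with hu
    have h3 : τ u = - u := by
      rw [hu, τsub]
      have : τ z - τ w = -(z - w) + ((z + τ z) - (w + τ w)) := by abel
      rw [this, h1, sub_self, add_zero]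
    have h4 : a' * u + τ (a' * u) = 0 := by
      rw [hu, mul_sub, τsub]
      have : a' * z - a' * w + (τ (a' * z) - τ (a' * w)) = (a' * z + τ (a' * z)) - (a' * w + τ (a' * w)) := by abel
      rw [this, h2, sub_self]
    rw [τmul, h3, mul_neg, ← sub_eq_add_neg, ← sub_mul] at h4
    rcases hdom _ _ h4 with h5 | h5
    · exact absurd (sub_eq_zero.1 h5).symm hane
    · exact sub_eq_zero.1 h5
  -- Hilbert 90
  have hH : ∀ s : Set.range (fun s : S => (en s : AddMonoid.End V)), ∃ y : KK S V, y ≠ 0 ∧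
      (τ y).1 * s.1 = y.1 := by
    rintro ⟨_, ⟨s, rfl⟩⟩
    have hs1 : τ ⟨en s, en_mem s⟩ = ⟨en s⁻¹, en_mem _⟩ := by
      apply Subtype.ext
      refine huniq (hτ _) fun x y => ?_
      have := inv s x (s⁻¹ • y)
      rw [smul_inv_smul] at this
      exact this
    have hss : (⟨en s⁻¹, en_mem _⟩ : KK S V) * ⟨en s, en_mem s⟩ = 1 := by
      apply Subtype.ext
      show en s⁻¹ * en s = 1
      rw [← en_mul, inv_mul_cancel, en_one]
    have τone : τ 1 = 1 := (τ0 1).1 hone
    by_cases h1 : (1 : KK S V) + ⟨en s, en_mem s⟩ = 0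
    · refine ⟨a' - τ a', sub_ne_zero.2 (Ne.symm hane), ?_⟩
      have h2 : (⟨en s, en_mem s⟩ : KK S V) = -1 := eq_neg_of_add_eq_zero_right h1
      have h3 : τ (a' - τ a') * ⟨en s, en_mem s⟩ = a' - τ a' := by
        rw [h2, τsub, ττ, mul_neg, mul_one, neg_sub]
      exact congrArg Subtype.val h3
    · refine ⟨1 + ⟨en s, en_mem s⟩, h1, ?_⟩
      have h3 : τ (1 + ⟨en s, en_mem s⟩) * ⟨en s, en_mem s⟩ = 1 + ⟨en s, en_mem s⟩ := by
        rw [τadd, τone, hs1, add_mul, hss, one_mul, add_comm]
      exact congrArg Subtype.val h3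
  choose y hy0 hys using hH
  have hcount : Nat.card (Set.range (fun s : S => (en s : AddMonoid.End V))) * (Nat.card (K0 S β) - 1) ≤
      Nat.card (KK S V) - 1 := by
    have e1 : Nat.card {c : K0 S β // c ≠ 0} = Nat.card (K0 S β) - 1 := by
      have := Fintype.ofFinite (K0 S β)
      rw [Nat.card_eq_fintype_card, Nat.card_eq_fintype_card, Fintype.card_subtype_compl, Fintype.card_subtype_eq]
    have e2 : Nat.card {c : KK S V // c ≠ 0} = Nat.card (KK S V) - 1 := by
      have := Fintype.ofFinite (KK S V)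
      rw [Nat.card_eq_fintype_card, Nat.card_eq_fintype_card, Fintype.card_subtype_compl, Fintype.card_subtype_eq]
    rw [← e1, ← e2, ← Nat.card_prod]
    have hc0 : ∀ c : {c : K0 S β // c ≠ 0}, (⟨c.1.1, c.1.2.1⟩ : KK S V) ≠ 0 := by
      intro c h
      have h' : (c.1.1 : AddMonoid.End V) = 0 := congrArg Subtype.val h
      exact c.2 (Subtype.ext h')
    refine Nat.card_le_card_of_injective (fun q : (Set.range (fun s : S => (en s : AddMonoid.End V))) ×
      {c : K0 S β // c ≠ 0} => (⟨⟨q.2.1.1, q.2.1.2.1⟩ * y q.1, fun h => ?_⟩ : {c : KK S V // c ≠ 0})) ?_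
    · rcases hdom _ _ h with h | h
      · exact hc0 _ h
      · exact hy0 _ h
    · rintro ⟨s, c⟩ ⟨t, d⟩ h
      have h1 : (⟨c.1.1, c.1.2.1⟩ : KK S V) * y s = ⟨d.1.1, d.1.2.1⟩ * y t :=
        congrArg (fun z : {c : KK S V // c ≠ 0} => z.1) h
      have hcc : τ ⟨c.1.1, c.1.2.1⟩ = ⟨c.1.1, c.1.2.1⟩ := (τ0 _).1 c.1.2
      have hdd : τ ⟨d.1.1, d.1.2.1⟩ = ⟨d.1.1, d.1.2.1⟩ := (τ0 _).1 d.1.2
      have h2 : (⟨c.1.1, c.1.2.1⟩ : KK S V) * τ (y s) = ⟨d.1.1, d.1.2.1⟩ * τ (y t) := by
        have := congrArg τ h1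
        rwa [τmul, τmul, hcc, hdd] at this
      have hsK : s.1 ∈ KK S V := by obtain ⟨s', hs'⟩ := s.2; rw [← hs']; exact en_mem s'
      have htK : t.1 ∈ KK S V := by obtain ⟨s', hs'⟩ := t.2; rw [← hs']; exact en_mem s'
      have h3 : (⟨c.1.1, c.1.2.1⟩ : KK S V) * τ (y s) * (⟨s.1, hsK⟩ - ⟨t.1, htK⟩) = 0 := by
        have e1 : (⟨c.1.1, c.1.2.1⟩ : KK S V) * τ (y s) * ⟨s.1, hsK⟩ = ⟨c.1.1, c.1.2.1⟩ * y s := by
          rw [mul_assoc]
          congr 1
          exact Subtype.ext (hys s)
        have e2 : (⟨d.1.1, d.1.2.1⟩ : KK S V) * τ (y t) * ⟨t.1, htK⟩ = ⟨d.1.1, d.1.2.1⟩ * y t := by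
          rw [mul_assoc]
          congr 1
          exact Subtype.ext (hys t)
        rw [mul_sub, e1, h2, e2, h1, sub_self]
      have hst : s = t := by
        rcases hdom _ _ h3 with h4 | h4
        · exfalso
          rcases hdom _ _ h4 with h5 | h5
          · exact hc0 _ h5
          · apply hy0 s
            rw [← ττ (y s), h5, τz]
        · have h7 : (⟨s.1, hsK⟩ : KK S V) = ⟨t.1, htK⟩ := sub_eq_zero.1 h4
          have h6 : (s.1 : AddMonoid.End V) = t.1 := congrArg (fun z : KK S V => z.1) h7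
          exact Subtype.ext h6
      subst hst
      have h5 : (⟨c.1.1, c.1.2.1⟩ - ⟨d.1.1, d.1.2.1⟩ : KK S V) * y s = 0 := by
        rw [sub_mul, h1, sub_self]
      rcases hdom _ _ h5 with h6 | h6
      · have h9 : (⟨c.1.1, c.1.2.1⟩ : KK S V) = ⟨d.1.1, d.1.2.1⟩ := sub_eq_zero.1 h6
        have h8 : (c.1.1 : AddMonoid.End V) = d.1.1 := congrArg (fun z : KK S V => z.1) h9
        have h7 : c = d := Subtype.ext (Subtype.ext h8)
        rw [h7]
      · exact absurd h6 (hy0 s)
  -- the order of `K₀`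
  have hK0p : IsPGroup p (Multiplicative (K0 S β)) := by
    intro g
    refine ⟨1, ?_⟩
    rw [pow_one]
    show Multiplicative.ofAdd (p • Multiplicative.toAdd g) = 1
    have : p • Multiplicative.toAdd g = 0 := by
      apply Subtype.ext
      ext x
      exact hp _
    rw [this]
    rfl
  obtain ⟨f, hf⟩ := IsPGroup.iff_card.1 hK0p
  have hcard : Nat.card (K0 S β) = p ^ f := hf
  have hf1 : 1 ≤ f := by
    by_contra h
    have h0 : f = 0 := by omega
    rw [h0, pow_zero] at hcard
    have hsub : Subsingleton (K0 S β) := (Nat.card_eq_one_iff_unique.1 hcard).1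
    exact hne (congrArg Subtype.val (hsub.elim (⟨1, hone⟩ : K0 S β) 0))
  refine ⟨(K0 S β).map evm, f, hf1, ?_, ?_, ?_⟩
  · rw [← hcard]
    refine (Nat.card_congr (Equiv.ofBijective (fun k : K0 S β => (⟨evm k.1, ⟨k.1, k.2, rfl⟩⟩ : (K0 S β).map evm)) ⟨?_, ?_⟩)).symm
    · intro k l h
      have h1 : k.1 m = l.1 m := congrArg Subtype.val h
      apply Subtype.ext
      have h2 := hinj (k.1 - l.1) (sub_mem k.2.1 l.2.1) (by
        show k.1 m - l.1 m = 0
        rw [h1, sub_self])
      exact sub_eq_zero.1 h2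
    · rintro ⟨_, ⟨k, hk, rfl⟩⟩
      exact ⟨⟨k, hk⟩, rfl⟩
  · rintro _ ⟨k, hk, rfl⟩ _ ⟨l, hl, rfl⟩
    show β (k m) (l m) = 0
    rw [hk.2]
    have := self_iso hirr β alt hp (K0_mul β hk hl) m
    exact this
  · -- count
    rw [← hcard]
    have h2 : 2 ≤ Nat.card (K0 S β) := by
      rw [hcard]
      calc 2 ≤ p := hpp.out.two_le
        _ = p ^ 1 := (pow_one p).symm
        _ ≤ p ^ f := Nat.pow_le_pow_right hpp.out.pos hf1
    obtain ⟨c, hc⟩ : ∃ c, Nat.card (K0 S β) = c + 2 := ⟨_, (Nat.sub_add_cancel h2).symm⟩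
    have h3 : Nat.card (Set.range (fun s : S => (en s : AddMonoid.End V))) * (Nat.card (K0 S β) - 1) ≤
        Nat.card (K0 S β) * Nat.card (K0 S β) - 1 := hcount.trans (Nat.sub_le_sub_right hK 1)
    rw [hc] at h3 ⊢
    have h4 : (c + 2) * (c + 2) - 1 = (c + 2 + 1) * (c + 1) := by
      have : (c + 2) * (c + 2) = (c + 2 + 1) * (c + 1) + 1 := by ring
      omega
    rw [h4] at h3
    exact Nat.le_of_mul_le_mul_right h3 (by omega)

end Cfsg.Agent.H157.Ab.MixIrr
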