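import Cfsg.Agent.H157.Ab.Stmt
import Cfsg.Agent.BpLieP.Big

/-!
# Abelian subgroups of simple groups: exceptional and sporadic rows, and the pieces for the exceptional groups (helper157)

* `PB p G a` / `SB p G s` : bounds for the abelian `p`-subgroups / `p'`-subgroups;
* `X1` : the mixture lemma, with the pieces `X1b` (isotropic subspace), `X1c` (coprime action on an abelian group);
* `X2` : leading terms in a filtration; `PB...` the bounds for abelian `p`-subgroups (`p` the characteristic);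
* `SB...` : the bounds for abelian `p'`-subgroups, instances of `X3` (StmtX3);
* the rows `RowG2`, ..., and the structure `Rows` collecting all of them.
-/

set_option autoImplicit false

namespace Cfsg.Agent.H157.Ab

open Cfsg

/-- the abelian `p`-subgroups have order at most `a` -/
def PB (p : ℕ) (G : Type*) [Group G] (a : ℕ) : Prop :=
  ∀ A : Subgroup G, IsMulCommutative A → IsPGroup p A → Nat.card A ≤ a

/-- the abelian `p'`-subgroups have order at most `s` -/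
def SB (p : ℕ) (G : Type*) [Group G] (s : ℕ) : Prop :=
  ∀ A : Subgroup G, IsMulCommutative A → ¬ p ∣ Nat.card A → Nat.card A ≤ s

/-- **Mixture lemma.** -/
def X1 : Prop := ∀ (G : Type) [Group G] [Finite G] (p : ℕ) [Fact p.Prime], BpLieP.Big.LocChar p G →
  ∀ u v : ℕ, u ≤ v → (∀ f, 1 ≤ f → (p ^ f + 1) ^ u ≤ p ^ (f * v)) → ∀ a s : ℕ, PB p G a → SB p G s →
  ∀ A : Subgroup G, IsMulCommutative A → p ∣ Nat.card A → Nat.card A ^ v ≤ a ^ v * s ^ (v - u)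

/-- isotropic subspaces -/
def X1b : Prop := ∀ (p : ℕ) [Fact p.Prime] (V Z : Type) [AddCommGroup V] [AddCommGroup Z] [Finite V]
  [Module (ZMod p) V] [Module (ZMod p) Z] (β : V →ₗ[ZMod p] V →ₗ[ZMod p] Z), (∀ x, β x x = 0) →
  ∀ S : Subgroup (V ≃ₗ[ZMod p] V), Comm (S : Set (V ≃ₗ[ZMod p] V)) → ¬ p ∣ Nat.card S →
  (∀ s ∈ S, ∀ x y, β (s x) (s y) = β x y) → ∀ u v : ℕ, u ≤ v → (∀ f, 1 ≤ f → (p ^ f + 1) ^ u ≤ p ^ (f * v)) →
  ∃ Y : Submodule (ZMod p) V, (∀ x ∈ Y, ∀ y ∈ Y, β x y = 0) ∧ Nat.card S ^ u ≤ Nat.card Y ^ v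

/-- an abelian `p'`-group acting faithfully on an abelian `p`-group -/
def X1c : Prop := ∀ (p : ℕ) [Fact p.Prime] (Z : Type) [CommGroup Z] [Finite Z], IsPGroup p Z →
  ∀ S : Subgroup (MulAut Z), Comm (S : Set (MulAut Z)) → ¬ p ∣ Nat.card S →
  Nat.card S * Nat.card {z : Z // ∀ s ∈ S, s z = z} ≤ Nat.card Z

/-- **Leading terms.** `U` a descending chain, `R i j`: an element with leading term at `i` never commutes with one with
leading term at `j`; `f` an injective map on `M` with `R i (f i)`. -/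
def X2 : Prop := ∀ (G : Type) [Group G] [Finite G] (N q : ℕ) (U : ℕ → Subgroup G),
  (∀ i, i < N → U (i + 1) ≤ U i) → (∀ i, i < N → (U (i + 1)).relIndex (U i) ≤ q) → U N = ⊥ → 1 ≤ q →
  ∀ R : ℕ → ℕ → Prop, (∀ i j, i < N → j < N → R i j → ∀ a ∈ U i, a ∉ U (i + 1) → ∀ b ∈ U j, b ∉ U (j + 1) →
    a * b ≠ b * a) → ∀ (M : Finset ℕ) (f : ℕ → ℕ), (∀ i ∈ M, i < N ∧ f i < N ∧ R i (f i)) → Set.InjOn f M →
  ∀ A : Subgroup G, A ≤ U 0 → IsMulCommutative A → Nat.card A ≤ q ^ ((2 * N - M.card) / 2)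

/-- the index of the Weyl group order prime to `p` -/
def cop (p n : ℕ) : ℕ := ordCompl[p] n

/-! ### bounds for the abelian `p`-subgroups and `p'`-subgroups, `p` the characteristic -/

def PBE6 : Prop := ∀ (F : Type) [Field F] [Fintype F] (p : ℕ) [Fact p.Prime] [CharP F p],
  PB p (Lie.chevE6.group F) (Fintype.card F ^ 18)

def PBE7 : Prop := ∀ (F : Type) [Field F] [Fintype F] (p : ℕ) [Fact p.Prime] [CharP F p],
  PB p (Lie.chevE7.group F) (Fintype.card F ^ 32)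

def PBE8 : Prop := ∀ (F : Type) [Field F] [Fintype F] (p : ℕ) [Fact p.Prime] [CharP F p],
  PB p (Lie.chevE8.group F) (Fintype.card F ^ 60)

def PBF4 : Prop := ∀ (F : Type) [Field F] [Fintype F] (p : ℕ) [Fact p.Prime] [CharP F p],
  PB p (Lie.chevF4.group F) (Fintype.card F ^ 13)

/-- `G₂`: `q⁴` for `p = 3`, `q³` otherwise (`q ≠ 2`) -/
def PBG2 : Prop := ∀ (F : Type) [Field F] [Fintype F] (p : ℕ) [Fact p.Prime] [CharP F p], 3 ≤ Fintype.card F →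
  PB p (Lie.chevG2.group F) (Fintype.card F ^ (if p = 3 then 4 else 3))

/-- `²E₆(q)`: at most `q ^ 18.5` -/
def PBTwE6 : Prop := ∀ (K : Type) [Field K] [Fintype K] (q : ℕ), Fintype.card K = q ^ 2 → ∀ (p : ℕ) [Fact p.Prime]
  [CharP K p], ∀ A : Subgroup (Lie.twistedE6 K q), IsMulCommutative A → IsPGroup p A → Nat.card A ^ 2 ≤ q ^ 37

/-- `³D₄(q)`: at most `q ^ 6.5` -/
def PBTwD4 : Prop := ∀ (K : Type) [Field K] [Fintype K] (q : ℕ), Fintype.card K = q ^ 3 → ∀ (p : ℕ) [Fact p.Prime]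
  [CharP K p], ∀ A : Subgroup (Lie.twistedD4 K q), IsMulCommutative A → IsPGroup p A → Nat.card A ^ 2 ≤ q ^ 13

/-- `|W|` for the exceptional types -/
def SBCh (D : Lie.ChevalleyDatum) (n w : ℕ) : Prop := ∀ (F : Type) [Field F] [Fintype F] (p : ℕ) [Fact p.Prime]
  [CharP F p], SB p (D.group F) (cop p w * (Fintype.card F + 1) ^ n)

def SBTwE6 : Prop := ∀ (K : Type) [Field K] [Fintype K] (q : ℕ), Fintype.card K = q ^ 2 → ∀ (p : ℕ) [Fact p.Prime]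
  [CharP K p], SB p (Lie.twistedE6 K q) (cop p 51840 * (q + 1) ^ 6)

def SBTwD4 : Prop := ∀ (K : Type) [Field K] [Fintype K] (q : ℕ), Fintype.card K = q ^ 3 → ∀ (p : ℕ) [Fact p.Prime]
  [CharP K p], SB p (Lie.twistedD4 K q) (cop p 192 * (q + 1) ^ 4)

/-- all rows -/
structure Rows : Prop where
  psl : RowPSL
  psp : RowPSp
  psu : RowPSU
  omOdd : RowOmOdd
  omPlus : RowOmPlus
  omMinus : RowOmMinus
  g2 : ∀ (F : Type) [Field F] [Fintype F], 3 ≤ Fintype.card F → Ab3 (Lie.chevG2.group F)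
  f4 : ∀ (F : Type) [Field F] [Fintype F], Ab3 (Lie.chevF4.group F)
  e6 : ∀ (F : Type) [Field F] [Fintype F], Ab3 (Lie.chevE6.group F)
  e7 : ∀ (F : Type) [Field F] [Fintype F], Ab3 (Lie.chevE7.group F)
  e8 : ∀ (F : Type) [Field F] [Fintype F], Ab3 (Lie.chevE8.group F)
  twE6 : ∀ (K : Type) [Field K] [Fintype K] (q : ℕ), IsPrimePow q → Fintype.card K = q ^ 2 → Ab3 (Lie.twistedE6 K q)
  twD4 : ∀ (K : Type) [Field K] [Fintype K] (q : ℕ), IsPrimePow q → Fintype.card K = q ^ 3 → Ab3 (Lie.twistedD4 K q)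
  sz : ∀ (F : Type) [Field F] [Fintype F] (m : ℕ), 1 ≤ m → Fintype.card F = 2 ^ (2 * m + 1) →
    Ab3 (Lie.Sz F (2 ^ (m + 1)))
  ree : ∀ (K : Type) [Field K] [Fintype K] (m : ℕ), 1 ≤ m → Fintype.card K = 3 ^ (2 * m + 1) →
    Ab3 (Lie.twistedG2 K (3 ^ m))
  twF4 : ∀ (K : Type) [Field K] [Fintype K] (m : ℕ), 1 ≤ m → Fintype.card K = 2 ^ (2 * m + 1) →
    Ab3 (Lie.twistedF4 K (2 ^ m))
  tits : Ab3 Lie.TitsGroup
  m11 : Ab3 Spor.M11
  m12 : Ab3 Spor.M12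
  m22 : Ab3 Spor.M22
  m23 : Ab3 Spor.M23
  m24 : Ab3 M24
  j1 : Ab3 Spor.J1
  j2 : Ab3 Spor.J2
  j3 : ∀ (F : Type) [Field F] [Fintype F] (ω : F), Fintype.card F = 4 → ω ^ 2 + ω + 1 = 0 → Ab3 (Spor.J3 F ω)
  j4 : Ab3 Spor.J4
  co1 : Ab3 Spor.Co1
  co2 : Ab3 Spor.Co2
  co3 : Ab3 Spor.Co3
  mcL : Ab3 Spor.McL
  hs : Ab3 Spor.HS
  suz : Ab3 Spor.Suz
  he : Ab3 Spor.He
  ru : Ab3 Spor.Ru
  on : Ab3 Spor.ON
  ly : Ab3 Spor.Ly
  fi22 : Ab3 Spor.Fi22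
  fi23 : Ab3 Spor.Fi23
  fi24 : Ab3 Spor.Fi24'
  hn : Ab3 Spor.HN
  th : Ab3 Spor.Th
  b : Ab3 Spor.BabyMonster
  m : Ab3 Spor.Monster

end Cfsg.Agent.H157.Ab
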