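import Cfsg.Agent.H157.Ab.Rows
import Cfsg.Agent.H795.Core

/-!
# Abelian subgroups of simple groups: the torus bound (helper157)

* `X3` : an abelian `r'`-group of fixed points of a Frobenius map of a Chevalley group.
-/

set_option autoImplicit false

namespace Cfsg.Agent.H157.Ab

open Cfsg

section X3

open CoxeterSystem Cfsg.Lie Cfsg.Lie.ChevalleyDatum
open Cfsg.Agent.ChevalleyStructure Cfsg.Agent.ChevalleyStructure.Elts Cfsg.Agent.ChevalleyStructure.CoxeterGeom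
  Cfsg.Agent.ChevalleyStructure.CoxeterGeomTypes Cfsg.Agent.ChevalleyStructure.NPerm
open Cfsg.Agent.Tits.Roots Cfsg.Agent.Tits.Core Cfsg.Agent.Nodes Cfsg.Agent.Nodes.Reps Cfsg.Agent.Nodes.BNOf
  Cfsg.Agent.Nodes.RGDChev Cfsg.Agent.Nodes.Bruhat
open Cfsg.Agent.KFacts.RgdField Cfsg.Agent.KFacts.RgdChevCoord Cfsg.Agent.BpExc.TorCent Cfsg.Agent.BpExc.TorChev
open Cfsg.Agent.GpExc.Field Cfsg.Agent.BpExc.Tow Cfsg.Agent.BpExc.TowChev Cfsg.Agent.BpExc.Fr
  Cfsg.Agent.BpExc.LangFr Cfsg.Agent.H795.SetCent Cfsg.Agent.H795.Toral Cfsg.Agent.H795.Reduce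
  Cfsg.Agent.H795.RootConn Cfsg.Agent.H123.ExcZ

/-- **The torus bound**: an abelian `r'`-group of fixed points of a Frobenius map. -/
def X3 : Prop := ∀ (D : ChevalleyDatum) (l : ℕ) (M : CoxeterMatrix (Fin l)) (hp : IsType D l M)
  (k : Type) [Field k] (r : ℕ) [Fact r.Prime] [CharP k r] [IsAlgClosed k], LocFin k →
  ∀ (G : Type) [Group G] [Finite G] (f : G →* ↥(D.group k)), Function.Injective f → ∀ (e : ℕ)
  (σ : MulAut ↥(D.group k)) (g : (Fin l → ℤ) ≃+ (Fin l → ℤ)), 0 < e → IsFrob r e σ →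
  Fr M.toCoxeterSystem hp.isCartan (TT D k) (XX D l k) σ g → (∀ x, σ (f x) = f x) →
  SB r G (cop r (Nat.card M.Group) * (r ^ e + 1) ^ l)

end X3

end Cfsg.Agent.H157.Ab
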