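import Cfsg.Agent.H157.Ab.Mix
import Cfsg.Agent.H157.Ab.Rows

/-!
# `X1` (helper157)

* `x1 : X1`, the mixture lemma in the form of `H157/Ab/Rows.lean`.
-/

set_option autoImplicit false

namespace Cfsg.Agent.H157.Ab

/-- **The mixture lemma.** -/
theorem x1 : X1 := by
  intro G _ _ p _ hG u v huv huv' a s ha hs A hA hpA
  have hA' : ∀ x ∈ A, ∀ y ∈ A, x * y = y * x := fun x hx y hy =>
    congrArg Subtype.val (hA.is_comm.comm ⟨x, hx⟩ ⟨y, hy⟩)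
  obtain ⟨B, S, hBc, hBp, hSA, hSp, h⟩ := Mix.mix hG hA' hpA huv huv'
  have h1 : Nat.card B ≤ a := ha B ⟨⟨fun x y => Subtype.ext (hBc x x.2 y y.2)⟩⟩ hBp
  have h2 : Nat.card S ≤ s := hs S ⟨⟨fun x y => Subtype.ext (hA' x (hSA x.2) y (hSA y.2))⟩⟩ hSp
  exact h.trans (Nat.mul_le_mul (Nat.pow_le_pow_left h1 v) (Nat.pow_le_pow_left h2 _))

end Cfsg.Agent.H157.Ab
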